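import Cfsg.Agent.Lib.Replacement.ZJ

/-!
# Characteristic forms of the ZJ theorem
-/

set_option autoImplicit false

namespace Cfsg.Agent.Replacement

open scoped Pointwise
open Subgroup Cfsg.Agent.PGroup

universe u

variable {G : Type u} [Group G] {p : ℕ}

theorem map_centralizer_equiv {H : Type*} [Group H] (e : G ≃* H) (A : Subgroup G) :
    (centralizer (A : Set G)).map e.toMonoidHom = centralizer (A.map e.toMonoidHom : Set H) := by
  ext y
  constructor
  · rintro ⟨x, hx, rfl⟩
    rw [mem_centralizer_iff]
    rintro _ ⟨a, ha, rfl⟩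
    exact ((show Commute a x from mem_centralizer_iff.1 hx a ha).map e.toMonoidHom).eq
  · intro hy
    refine ⟨e.symm y, mem_centralizer_iff.2 fun a ha => e.injective ?_, e.apply_symm_apply y⟩
    simpa using mem_centralizer_iff.1 hy (e a) (mem_map_of_mem _ ha)

theorem centerThompsonAOf_map_equiv {H : Type*} [Group H] (e : G ≃* H) (P : Subgroup G) :
    centerThompsonAOf (P.map e.toMonoidHom) = (centerThompsonAOf P).map e.toMonoidHom := by
  rw [centerThompsonAOf, centerThompsonAOf, ← thompsonSubgroupAOf_map_equiv,
    Subgroup.map_inf _ _ _ e.injective, map_centralizer_equiv]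

theorem centerThompsonOf_map_equiv {H : Type*} [Group H] (e : G ≃* H) (P : Subgroup G) :
    centerThompsonOf p (P.map e.toMonoidHom) = (centerThompsonOf p P).map e.toMonoidHom := by
  rw [centerThompsonOf, centerThompsonOf, ← thompsonSubgroupOf_map_equiv,
    Subgroup.map_inf _ _ _ e.injective, map_centralizer_equiv]

theorem omegaOne_centerThompsonOf_map_equiv {H : Type*} [Group H] (e : G ≃* H) (P : Subgroup G) :
    omegaOne p (centerThompsonOf p (P.map e.toMonoidHom)) =
      (omegaOne p (centerThompsonOf p P)).map e.toMonoidHom := by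
  rw [centerThompsonOf_map_equiv, map_omegaOne_of_injective (f := e.toMonoidHom) e.injective]

/-- A normal subgroup attached equivariantly to a Sylow subgroup is characteristic. -/
theorem characteristic_of_normal [Finite G] [Fact p.Prime] (F : Subgroup G → Subgroup G)
    (hF : ∀ (e : G ≃* G) (P : Subgroup G), F (P.map e.toMonoidHom) = (F P).map e.toMonoidHom)
    (S : Sylow p G) (hN : (F S).Normal) : (F S).Characteristic := by
  rw [characteristic_iff_map_eq]
  intro e
  have hP : IsPGroup p ↥((S : Subgroup G).map e.toMonoidHom) := S.2.map _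
  obtain ⟨g, hg⟩ := MulAction.exists_smul_eq G S
    (hP.toSylow (fun h => S.not_dvd_index (by rwa [show e.toMonoidHom = (e : G →* G) from rfl, index_map_equiv] at h)))
  have hg' : (S : Subgroup G).map (MulAut.conj g).toMonoidHom = (S : Subgroup G).map e.toMonoidHom := by
    have h := congrArg Sylow.toSubgroup hg
    rw [Sylow.coe_subgroup_smul] at h
    exact h
  haveI := hN
  rw [← hF e, ← hg', hF (MulAut.conj g)]
  exact Subgroup.normalizer_eq_top_iff.2 hN |> fun h => PGroup.map_conj_eq_of_mem_normalizer (h ▸ mem_top g)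

theorem map_omegaCenterThompson (P : Subgroup G) :
    (omegaCenterThompson p ↥P).map P.subtype = omegaOne p (centerThompsonOf p P) := by
  rw [omegaCenterThompson, map_omegaOne_of_injective P.subtype_injective,
    Subgroup.map_inf _ _ _ P.subtype_injective, centerThompsonOf, thompsonSubgroupOf]
  congr 1
  refine le_antisymm (inf_le_inf_left _ ?_) (le_inf inf_le_left ?_)
  · rintro _ ⟨x, hx, rfl⟩
    rw [mem_centralizer_iff]
    rintro _ ⟨a, ha, rfl⟩
    exact congrArg Subtype.val (mem_centralizer_iff.1 hx a ha)
  · intro x hx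
    rw [Subgroup.mem_inf] at hx
    obtain ⟨y, hy, rfl⟩ := hx.1
    exact ⟨y, mem_centralizer_iff.2 fun a ha => Subtype.ext
      (mem_centralizer_iff.1 hx.2 a (mem_map_of_mem P.subtype ha)), rfl⟩

end Cfsg.Agent.Replacement
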