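import Cfsg.Agent.Lib.Replacement.FullCentre
import Cfsg.Agent.Lib.Replacement.Characteristic

/-!
# The ZJ theorem for `p`-constrained, `p`-stable groups

`G = O_{p'}(G) N_G(Z(J(S)))` for both Thompson subgroups (`p` odd).
-/

set_option autoImplicit false

namespace Cfsg.Agent.Replacement

open scoped commutatorElement Pointwise
open Subgroup Cfsg.Agent.PGroup

universe u v

section InjOn

variable {G : Type u} [Group G] {H : Type v} [Group H] (f : G →* H) {P : Subgroup G}

/-- The isomorphism onto the image of a subgroup on which `f` is injective. -/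
noncomputable def imageEquiv (hf : ∀ x ∈ P, f x = 1 → x = 1) : P ≃* P.map f :=
  MulEquiv.ofBijective ((f.comp P.subtype).codRestrict (P.map f) fun x => mem_map_of_mem f x.2)
    ⟨(injective_iff_map_eq_one _).2 fun x hx => Subtype.ext (hf x x.2 (congrArg Subtype.val hx)),
      fun ⟨y, hy⟩ => by obtain ⟨x, hx, rfl⟩ := hy; exact ⟨⟨x, hx⟩, rfl⟩⟩

theorem subtype_comp_imageEquiv (hf : ∀ x ∈ P, f x = 1 → x = 1) :
    (P.map f).subtype.comp (imageEquiv f hf).toMonoidHom = f.comp P.subtype :=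
  MonoidHom.ext fun _ => rfl

theorem thompsonSubgroupAOf_map_injOn (hf : ∀ x ∈ P, f x = 1 → x = 1) :
    thompsonSubgroupAOf (P.map f) = (thompsonSubgroupAOf P).map f := by
  have h := thompsonSubgroupAOf_map_equiv (imageEquiv f hf) (⊤ : Subgroup P)
  rw [map_top_of_surjective (imageEquiv f hf).toMonoidHom (imageEquiv f hf).surjective, thompsonSubgroupAOf_top,
    thompsonSubgroupAOf_top] at h
  rw [thompsonSubgroupAOf, thompsonSubgroupAOf, ← h, map_map, map_map, subtype_comp_imageEquiv]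

theorem thompsonSubgroupOf_map_injOn {p : ℕ} (hf : ∀ x ∈ P, f x = 1 → x = 1) :
    thompsonSubgroupOf p (P.map f) = (thompsonSubgroupOf p P).map f := by
  have h := thompsonSubgroupOf_map_equiv (p := p) (imageEquiv f hf) (⊤ : Subgroup P)
  rw [map_top_of_surjective (imageEquiv f hf).toMonoidHom (imageEquiv f hf).surjective, thompsonSubgroupOf_top,
    thompsonSubgroupOf_top] at h
  rw [thompsonSubgroupOf, thompsonSubgroupOf, ← h, map_map, map_map, subtype_comp_imageEquiv]

theorem map_inf_centralizer_injOn (hf : ∀ x ∈ P, f x = 1 → x = 1) {J : Subgroup G} (hJ : J ≤ P) :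
    (J ⊓ centralizer (J : Set G)).map f = J.map f ⊓ centralizer (J.map f : Set H) := by
  refine le_antisymm (le_inf (map_mono inf_le_left) ?_) ?_
  · rintro _ ⟨x, hx, rfl⟩
    rw [mem_centralizer_iff]
    rintro _ ⟨j, hj, rfl⟩
    rw [← map_mul, ← map_mul, mem_centralizer_iff.1 (Subgroup.mem_inf.1 hx).2 j hj]
  · intro y hy
    obtain ⟨x, hx, rfl⟩ := (Subgroup.mem_inf.1 hy).1
    refine mem_map_of_mem f (Subgroup.mem_inf.2 ⟨hx, mem_centralizer_iff_commutator_eq_one.2 fun j hj => ?_⟩)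
    refine hf _ (mul_mem (mul_mem (mul_mem (hJ hj) (hJ hx)) (inv_mem (hJ hj))) (inv_mem (hJ hx))) ?_
    rw [map_commutatorElement]
    exact mem_centralizer_iff_commutator_eq_one.1 (Subgroup.mem_inf.1 hy).2 _ (mem_map_of_mem f hj)

theorem centerThompsonAOf_map_injOn (hf : ∀ x ∈ P, f x = 1 → x = 1) :
    centerThompsonAOf (P.map f) = (centerThompsonAOf P).map f := by
  rw [centerThompsonAOf, centerThompsonAOf, thompsonSubgroupAOf_map_injOn f hf,
    map_inf_centralizer_injOn f hf (thompsonSubgroupAOf_le P)]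

theorem centerThompsonOf_map_injOn {p : ℕ} (hf : ∀ x ∈ P, f x = 1 → x = 1) :
    centerThompsonOf p (P.map f) = (centerThompsonOf p P).map f := by
  rw [centerThompsonOf, centerThompsonOf, thompsonSubgroupOf_map_injOn f hf,
    map_inf_centralizer_injOn f hf (thompsonSubgroupOf_le P)]

end InjOn

variable {G : Type u} [Group G] [Finite G] {p : ℕ} [hp : Fact p.Prime]

/-- For `K/C` a `p`-group (`C ≤ K` normal), `K = (S ∩ K) C`. -/
theorem sylow_inf_sup_eq (S : Sylow p G) {K C : Subgroup G} [K.Normal] [C.Normal] (hC : C ≤ K)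
    (hK : IsPGroup p (K.map (QuotientGroup.mk' C))) : (S : Subgroup G) ⊓ K ⊔ C = K := by
  obtain ⟨R, hR⟩ := SylowCount.exists_sylow_inf S K
  obtain ⟨m, hm⟩ := hK.exists_card_eq
  rw [← PCore.relIndex_eq_card_map_mk'] at hm
  have h := congrArg (Subgroup.map K.subtype) (PCore.sylow_sup_eq_top R (C.subgroupOf K) hm)
  rwa [Subgroup.map_sup, hR, subgroupOf_map_subtype, subgroupOf_map_subtype, inf_of_le_left hC,
    ← MonoidHom.range_eq_map, range_subtype] at h

omit [Finite G] hp in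
theorem injOn_mk_pPrimeCore [Finite G] {S : Subgroup G} (hS : IsPGroup p S) :
    ∀ x ∈ S, QuotientGroup.mk' (pPrimeCore p G) x = 1 → x = 1 := fun x hx h =>
  (Subgroup.disjoint_def.1 (PCore.disjoint_of_isPGroup_of_coprime hS PCore.coprime_card_pPrimeCore))
    hx ((QuotientGroup.eq_one_iff x).1 h)

/-- Frattini: if `N ⊔ Z` is normal, `Z` the intersection with it of a Sylow subgroup, then `G = N N(Z)`. -/
theorem sup_normalizer_eq_top (S : Sylow p G) {N Z : Subgroup G} (hnorm : (Z ⊔ N).Normal)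
    (hZ : (S : Subgroup G) ⊓ (Z ⊔ N) = Z) : N ⊔ normalizer (Z : Set G) = ⊤ := by
  haveI := hnorm
  obtain ⟨R, hR⟩ := SylowCount.exists_sylow_inf S (Z ⊔ N)
  have h := Sylow.normalizer_sup_eq_top R
  rw [hR, subgroupOf_map_subtype, hZ] at h
  rw [eq_top_iff, ← h]
  exact sup_le le_sup_right (sup_le (le_normalizer.trans le_sup_right) le_sup_left)

/-- `p`-stability of `G` gives stability for the Sylow subgroup of `G/O_{p'}(G)`. -/
theorem stableOn_quotient (S : Sylow p G) (hs : Cfsg.IsPStable p G) :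
    StableOn p ((S : Subgroup G).map (QuotientGroup.mk' (pPrimeCore p G))) := by
  intro V hV hVp x hx hq
  obtain ⟨a, ha, rfl⟩ := hx
  set N := pPrimeCore p G
  set π := QuotientGroup.mk' N
  set H := V.comap π with hH
  haveI : H.Normal := hV.comap π
  have hNH : N ≤ H := (QuotientGroup.ker_mk' N).ge.trans (MonoidHom.ker_le_comap _ _)
  have hHm : H.map π = V := map_comap_eq_self_of_surjective (QuotientGroup.mk'_surjective N) V
  set P₀ := (S : Subgroup G) ⊓ H with hP₀
  have hsup : P₀ ⊔ N = H := sylow_inf_sup_eq S hNH (by rw [hHm]; exact hVp)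
  have hP₀m : P₀.map π = V := by
    rw [← hHm, ← hsup, Subgroup.map_sup, (map_eq_bot_iff N).2 (QuotientGroup.ker_mk' N).ge, sup_bot_eq]
  have hP₀S : IsPGroup p P₀ := S.2.to_le inf_le_left
  have hnorm : ∀ b ∈ zpowers a, ∀ y ∈ P₀, b * y * b⁻¹ ∈ P₀ := by
    intro b hb y hy
    have hbS := zpowers_le.2 ha hb
    rw [Subgroup.mem_inf] at hy ⊢
    exact ⟨mul_mem (mul_mem hbS hy.1) (inv_mem hbS), ‹H.Normal›.conj_mem y hy.2 b⟩
  have hle : ⁅⁅P₀, zpowers a⁆, zpowers a⁆ ≤ P₀ := by
    have h1 : ⁅P₀, zpowers a⁆ ≤ P₀ := by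
      rw [commutator_le]
      intro y hy b hb
      rw [show ⁅y, b⁆ = y * (b * y⁻¹ * b⁻¹) by simp [commutatorElement_def, mul_assoc]]
      exact mul_mem hy (hnorm b hb _ (inv_mem hy))
    rw [commutator_le]
    intro y hy b hb
    rw [show ⁅y, b⁆ = y * (b * y⁻¹ * b⁻¹) by simp [commutatorElement_def, mul_assoc]]
    exact mul_mem (h1 hy) (hnorm b hb _ (inv_mem (h1 hy)))
  have hquad : ⁅⁅P₀, zpowers a⁆, zpowers a⁆ = ⊥ := by
    rw [eq_bot_iff]
    intro y hy
    refine (mem_bot).2 (injOn_mk_pPrimeCore hP₀S y (hle hy) ?_)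
    have h : π y ∈ ⁅⁅V, zpowers (π a)⁆, zpowers (π a)⁆ := by
      rw [← hP₀m, ← MonoidHom.map_zpowers, ← map_commutator, ← map_commutator]
      exact mem_map_of_mem π hy
    rwa [hq, mem_bot] at h
  have hpcore : P₀ ≤ pPrimePCore p G := fun y hy =>
    mem_comap.2 (PCore.le_pCore hVp (hP₀m ▸ mem_map_of_mem π hy))
  have hA : IsPGroup p (zpowers a) := S.2.to_le (zpowers_le.2 ha)
  have hNP : (N ⊔ P₀).Normal := by rw [sup_comm, hsup]; infer_instance
  have h := hs.2.2 (zpowers a) P₀ hA hP₀S hnorm hpcore hNP hquad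
  have haN : a ∈ normalizer (P₀ : Set G) := by
    refine mem_normalizer_iff.2 fun y => ⟨hnorm a (mem_zpowers a) y, fun hy => ?_⟩
    simpa [mul_assoc] using hnorm a⁻¹ (inv_mem (mem_zpowers a)) _ hy
  have hk := h (mem_map_of_mem _ (show (⟨a, haN⟩ : normalizer (P₀ : Set G)) ∈
    (zpowers a).subgroupOf _ from mem_subgroupOf.2 (mem_zpowers a)))
  refine map_mk_centralizer_mem (π.comp (normalizer (P₀ : Set G)).subtype) V _ ?_ ?_ hk
  · intro y hy
    rw [mem_comap, mem_centralizer_iff, ← hP₀m]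
    rintro _ ⟨z, hz, rfl⟩
    show π z * π (y : G) = π (y : G) * π z
    rw [← map_mul, ← map_mul, mem_centralizer_iff.1 (mem_subgroupOf.1 hy) z hz]
  · intro g
    obtain ⟨g, rfl⟩ := QuotientGroup.mk'_surjective N g
    have hP₀eq : (S : Subgroup G) ⊓ (P₀ ⊔ N) = P₀ := by rw [hsup]
    obtain ⟨n, hn, m, hm, rfl⟩ : g ∈ (N : Set G) * (normalizer (P₀ : Set G) : Set G) := by
      rw [← normal_mul, sup_normalizer_eq_top S (hsup.symm ▸ inferInstance) hP₀eq]; trivial
    refine ⟨⟨m, hm⟩, ?_⟩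
    show (π m)⁻¹ * π (n * m) ∈ _
    rw [map_mul, show π n = 1 from (QuotientGroup.eq_one_iff n).2 hn, one_mul, inv_mul_cancel]
    exact one_mem _

theorem map_sylow_quotient (S : Sylow p G) :
    (S.mapSurjective (QuotientGroup.mk'_surjective (pPrimeCore p G)) : Subgroup (G ⧸ pPrimeCore p G)) =
      (S : Subgroup G).map (QuotientGroup.mk' (pPrimeCore p G)) :=
  Sylow.coe_mapSurjective _ _

/-- From normality in `G/O_{p'}(G)` back to a factorization of `G`. -/
theorem sup_normalizer_of_normal_map (S : Sylow p G) {Z : Subgroup G} (hZS : Z ≤ (S : Subgroup G))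
    (hn : (Z.map (QuotientGroup.mk' (pPrimeCore p G))).Normal) :
    pPrimeCore p G ⊔ normalizer (Z : Set G) = ⊤ := by
  refine sup_normalizer_eq_top S ?_ ?_
  · have := hn.comap (QuotientGroup.mk' (pPrimeCore p G))
    rwa [comap_map_eq, QuotientGroup.ker_mk'] at this
  · refine le_antisymm ?_ (le_inf hZS le_sup_left)
    intro x hx
    rw [Subgroup.mem_inf] at hx
    obtain ⟨z, hz, n, hn', rfl⟩ : x ∈ (Z : Set G) * (pPrimeCore p G : Set G) := by
      rw [← mul_normal]; exact hx.2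
    have hnS : n ∈ (S : Subgroup G) := by simpa using mul_mem (inv_mem (hZS hz)) hx.1
    show z * n ∈ Z
    rwa [injOn_mk_pPrimeCore S.2 n hnS ((QuotientGroup.eq_one_iff n).2 hn'), mul_one]

/-- `G = O_{p'}(G) N(Z(J(S)))`, abelian version. -/
theorem pPrimeCore_sup_normalizer_A (h2 : p ≠ 2) (hc : Cfsg.IsPConstrained p G)
    (hs : Cfsg.IsPStable p G) (S : Sylow p G) :
    pPrimeCore p G ⊔ normalizer (centerThompsonAOf (S : Subgroup G) : Set G) = ⊤ := by
  refine sup_normalizer_of_normal_map S (inf_le_left.trans (thompsonSubgroupAOf_le _)) ?_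
  rw [← centerThompsonAOf_map_injOn _ (injOn_mk_pPrimeCore S.2), ← map_sylow_quotient]
  refine centerThompsonAOf_normal h2 _ (isStronglyClosed_self _) ?_ (PCore.isPConstrained_iff.1 hc)
  rw [map_sylow_quotient]
  exact stableOn_quotient S hs

/-- `G = O_{p'}(G) N(Z(J(S)))`, elementary version, full centre. -/
theorem pPrimeCore_sup_normalizer (h2 : p ≠ 2) (hc : Cfsg.IsPConstrained p G)
    (hs : Cfsg.IsPStable p G) (S : Sylow p G) :
    pPrimeCore p G ⊔ normalizer (centerThompsonOf p (S : Subgroup G) : Set G) = ⊤ := by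
  refine sup_normalizer_of_normal_map S (inf_le_left.trans (thompsonSubgroupOf_le _)) ?_
  rw [← centerThompsonOf_map_injOn _ (injOn_mk_pPrimeCore S.2), ← map_sylow_quotient]
  refine centerThompsonOf_normal h2 _ ?_ (PCore.isPConstrained_iff.1 hc)
  rw [map_sylow_quotient]
  exact stableOn_quotient S hs

/-- If also `O_{p'}(G) = 1`, then `Z(J(S))` is normal. -/
theorem centerThompsonAOf_normal_of_isPStable (h2 : p ≠ 2) (hc : Cfsg.IsPConstrained p G)
    (hs : Cfsg.IsPStable p G) (hO : pPrimeCore p G = ⊥) (S : Sylow p G) :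
    (centerThompsonAOf (S : Subgroup G)).Normal := by
  have h := pPrimeCore_sup_normalizer_A h2 hc hs S
  rw [hO, bot_sup_eq] at h
  exact normalizer_eq_top_iff.1 h

end Cfsg.Agent.Replacement
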