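import Cfsg.Agent.Lib.Replacement.Families
import Cfsg.Agent.Lib.PCore.Basic
import Cfsg.Agent.Lib.PCore.HallHigman
import Cfsg.Agent.Lib.PCore.UpperSeries
import Cfsg.Agent.Lib.Coprime.OmegaOne
import Cfsg.Agent.Lib.SylowCount.Basic
import Cfsg.Prelude.Def_Local
import Cfsg.Prelude.Def_LocalEven
import Cfsg.Prelude.Def_TwoFusion

/-!
# Glauberman's ZJ theorem

Generic forms (`inf_normal`, `sInf_normal`) for a family of abelian subgroups of a Sylow subgroup with
invariance and replacement, and instances: `Z(J_A(D))`, `Ω₁(Z(J_e(D)))` for `D` strongly closed, the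
full centre `Z(J_e(S))`, and their characteristic versions.
-/

set_option autoImplicit false

namespace Cfsg.Agent.Replacement

open scoped commutatorElement Pointwise
open Subgroup Cfsg.Agent.PGroup

universe u

variable {G : Type u} [Group G]

/-- The elements of `S` acting quadratically on a normal `p`-subgroup `V` act in `O_p(G/C(V))`. -/
def StableOn (p : ℕ) (S : Subgroup G) : Prop :=
  ∀ (V : Subgroup G) [V.Normal], IsPGroup p V → ∀ a ∈ S,
    ⁅⁅V, zpowers a⁆, zpowers a⁆ = ⊥ →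
      a ∈ (pCore p (G ⧸ centralizer (V : Set G))).comap (QuotientGroup.mk' (centralizer (V : Set G)))

theorem stableOn_of_isPStableOn {p : ℕ} (S : Subgroup G)
    (h : ∀ (V : Subgroup G) [V.Normal], IsPGroup p V → Cfsg.IsPStableOn p V) : StableOn p S :=
  fun V _ hV a _ hq => h V hV a hq

theorem map_mk_centralizer_mem {p : ℕ} {K : Type*} [Group K] (f : K →* G) (V : Subgroup G) [V.Normal]
    (C : Subgroup K) [C.Normal] (hC : C ≤ (centralizer (V : Set G)).comap f)
    (hsurj : ∀ g : G, ∃ k, (f k)⁻¹ * g ∈ centralizer (V : Set G)) {k : K}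
    (hk : (QuotientGroup.mk k : K ⧸ C) ∈ pCore p (K ⧸ C)) :
    f k ∈ (pCore p (G ⧸ centralizer (V : Set G))).comap (QuotientGroup.mk' (centralizer (V : Set G))) := by
  refine PCore.map_pCore_le (QuotientGroup.map C (centralizer (V : Set G)) f hC) ?_ ⟨_, hk, rfl⟩
  intro y
  obtain ⟨g, rfl⟩ := QuotientGroup.mk'_surjective _ y
  obtain ⟨k, hk⟩ := hsurj g
  exact ⟨QuotientGroup.mk' C k, (QuotientGroup.eq (s := centralizer (V : Set G))).2 hk⟩

theorem stableOn_of_isNormalizerPStable {p : ℕ} (S : Subgroup G)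
    (h : Cfsg.IsNormalizerPStable p G) : StableOn p S := by
  intro V hV hVp a _ hq
  have ha : a ∈ normalizer (V : Set G) := by rw [normalizer_eq_top V]; trivial
  exact map_mk_centralizer_mem (normalizer (V : Set G)).subtype V _ (fun x hx => hx)
    (fun g => ⟨⟨g, by rw [normalizer_eq_top V]; trivial⟩, by simp [one_mem]⟩) (h V hVp a ha hq)

theorem commutator_commutator_zpowers_eq_bot {V A : Subgroup G} (hA : IsMulCommutative A)
    (hV : V ≤ normalizer (A : Set G)) {a : G} (ha : a ∈ A) :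
    ⁅⁅V, zpowers a⁆, zpowers a⁆ = ⊥ := by
  refine commutator_eq_bot_iff_le_centralizer.2 ?_
  have h1 : ⁅V, zpowers a⁆ ≤ A := by
    rw [commutator_le]
    intro v hv x hx
    have hxA : x ∈ A := zpowers_le.2 ha hx
    exact mul_mem ((mem_normalizer_iff.1 (hV hv) x).1 hxA) (inv_mem hxA)
  exact h1.trans ((le_centralizer_of_isMulCommutative hA).trans (centralizer_le (zpowers_le.2 ha)))

variable [Finite G] {p : ℕ} [hp : Fact p.Prime]

theorem inf_normal_of_normalClosure_le {B W : Subgroup G} [B.Normal]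
    (h : ∀ T : Subgroup G, T.Normal → T ≤ B → T ≠ B → (T ⊓ W).Normal)
    (hne : normalClosure ((B ⊓ W : Subgroup G) : Set G) ≠ B) : (B ⊓ W).Normal := by
  have hle : normalClosure ((B ⊓ W : Subgroup G) : Set G) ≤ B := normalClosure_le_normal inf_le_left
  have heq : normalClosure ((B ⊓ W : Subgroup G) : Set G) ⊓ W = B ⊓ W :=
    le_antisymm (inf_le_inf_right _ hle) (le_inf le_normalClosure inf_le_right)
  exact heq ▸ h _ normalClosure_normal hle hne

omit hp in
theorem derived_le_inf {S W B : Subgroup G} [B.Normal] (hBS : B ≤ S)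
    (hWS : S ≤ normalizer (W : Set G)) (hW : IsMulCommutative W)
    (hgen : normalClosure ((B ⊓ W : Subgroup G) : Set G) = B)
    (hT : (⁅B, B⁆ ⊓ W).Normal) : ⁅B, B⁆ ≤ W ∧ ⁅⁅B, B⁆, B⁆ = ⊥ := by
  set T := ⁅B, B⁆ ⊓ W with hTdef
  haveI := hT
  let M : Subgroup G := (centralizer (B.map (QuotientGroup.mk' T) : Set (G ⧸ T))).comap (QuotientGroup.mk' T)
  haveI : (B.map (QuotientGroup.mk' T)).Normal :=
    Subgroup.Normal.map inferInstance _ (QuotientGroup.mk'_surjective T)
  haveI : M.Normal := inferInstance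
  have hZM : (B ⊓ W : Subgroup G) ≤ M := by
    intro z hz
    rw [Subgroup.mem_inf] at hz
    rw [Subgroup.mem_comap, mem_centralizer_iff_commutator_eq_one]
    rintro _ ⟨y, hy, rfl⟩
    rw [← map_commutatorElement]
    refine (QuotientGroup.eq_one_iff _).2 (Subgroup.mem_inf.2 ⟨?_, ?_⟩)
    · exact commutator_mem_commutator hy hz.1
    · exact mul_mem ((mem_normalizer_iff.1 (hWS (hBS hy)) z).1 hz.2) (inv_mem hz.2)
  have hBM : B ≤ M := hgen.symm.le.trans (normalClosure_le_normal hZM)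
  have hBT : ⁅B, B⁆ ≤ T := by
    rw [commutator_le]
    intro x hx y hy
    have h := (mem_centralizer_iff_commutator_eq_one.1 (hBM hy)) _ ⟨x, hx, rfl⟩
    rw [← map_commutatorElement] at h
    exact (QuotientGroup.eq_one_iff _).1 h
  refine ⟨hBT.trans inf_le_right, ?_⟩
  have hTB : B ≤ centralizer (T : Set G) := by
    refine hgen.symm.le.trans (normalClosure_le_normal ?_)
    exact fun z hz => mem_centralizer_iff.2 fun t ht => mul_comm_of_isMulCommutative hW
      (Subgroup.mem_inf.1 ht).2 (Subgroup.mem_inf.1 hz).2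
  rw [commutator_eq_bot_iff_le_centralizer]
  exact hBT.trans (le_centralizer_iff.1 hTB)

theorem commutator_lt_self {B : Subgroup G} (hB : IsPGroup p B) (hne : B ≠ ⊥) : ⁅B, B⁆ ≠ B := by
  intro h
  haveI := hB.isNilpotent
  haveI : Nontrivial B := (nontrivial_iff_ne_bot B).2 hne
  have h1 : commutator B = ⊤ := map_injective B.subtype_injective
    (by rw [map_subtype_commutator, h, ← MonoidHom.range_eq_map, range_subtype])
  haveI : Group.IsSolvable B := inferInstance
  exact (Group.IsSolvable.commutator_lt_top_of_nontrivial B).ne h1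

/-- Frattini: with `K = ` the preimage of `O_p(G/C(V))`, every element is a product from
`N(S ∩ K)` and `C(V)`. -/
theorem exists_normalizer_mul_centralizer (S : Sylow p G) (V : Subgroup G) [V.Normal] (g : G) :
    ∃ n ∈ normalizer (((S : Subgroup G) ⊓ (pCore p (G ⧸ centralizer (V : Set G))).comap
        (QuotientGroup.mk' (centralizer (V : Set G))) : Subgroup G) : Set G),
      ∃ c ∈ centralizer (V : Set G), g = n * c := by
  set C := centralizer (V : Set G) with hC
  set K := (pCore p (G ⧸ C)).comap (QuotientGroup.mk' C) with hK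
  haveI : K.Normal := inferInstance
  set Q := (S : Subgroup G) ⊓ K with hQ
  have hCK : C ≤ K := (QuotientGroup.ker_mk' C).ge.trans (MonoidHom.ker_le_comap _ _)
  obtain ⟨Q', hQ'⟩ : ∃ Q' : Sylow p K, (Q' : Subgroup K).map K.subtype = Q := by
    obtain ⟨R, hR⟩ := SylowCount.exists_sylow_inf S K
    exact ⟨R, by rw [hR, subgroupOf_map_subtype]⟩
  have hfr := Sylow.normalizer_sup_eq_top Q'
  rw [hQ'] at hfr
  obtain ⟨n, hn, k, hk, rfl⟩ : g ∈ (normalizer (Q : Set G) : Set G) * (K : Set G) := by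
    rw [← mul_normal, hfr]; trivial
  -- `K = Q C`, the image of `Q` being the whole `p`-group `K / C`
  have hKQ : K ≤ Q ⊔ C := by
    have hKp : IsPGroup p (K.map (QuotientGroup.mk' C)) :=
      PCore.isPGroup_pCore.to_le (map_comap_le _ _)
    let R := (Q ⊔ C).subgroupOf K
    obtain ⟨a, ha⟩ := hKp.exists_card_eq
    have h1 : R.index ∣ p ^ a := by
      rw [← ha, ← PCore.relIndex_eq_card_map_mk']
      exact relIndex_dvd_of_le_left K le_sup_right
    have h2 : ¬ p ∣ R.index := fun h => Q'.not_dvd_index (h.trans (index_dvd_of_le ?_))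
    · have : R.index = 1 := by
        obtain ⟨b, -, hb⟩ := (Nat.dvd_prime_pow hp.out).1 h1
        rcases b with _ | b
        · simpa using hb
        · exact absurd (hb ▸ dvd_pow_self p b.succ_ne_zero) h2
      exact relIndex_eq_one.1 this
    · intro x hx
      refine mem_subgroupOf.2 (mem_sup_left ?_)
      rw [← hQ']
      exact mem_map_of_mem _ hx
  obtain ⟨q, hq, c, hc, rfl⟩ : k ∈ (Q : Set G) * (C : Set G) := by
    rw [← mul_normal]; exact hKQ hk
  exact ⟨n * q, mul_mem hn (le_normalizer hq), c, hc, (mul_assoc _ _ _).symm⟩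

/-- The main step: `B ∩ ⋂ 𝒜` is normal for every normal `p`-subgroup `B`. -/
theorem inf_normal (S : Sylow p G) (hst : StableOn p (S : Subgroup G)) (𝒜 : Set (Subgroup G))
    (hne : 𝒜.Nonempty) (hle : ∀ A ∈ 𝒜, A ≤ (S : Subgroup G))
    (hab : ∀ A ∈ 𝒜, IsMulCommutative A)
    (hinv : ∀ Q : Subgroup G, Q ≤ S → ∀ n ∈ normalizer (Q : Set G), ∀ A ∈ 𝒜, A ≤ Q →
      A.map (MulAut.conj n).toMonoidHom ∈ 𝒜)
    (hrep : ∀ B : Subgroup G, B.Normal → IsPGroup p B → ⁅⁅B, B⁆, B⁆ = ⊥ →
      (∃ U ∈ 𝒜, ⁅B, B⁆ ≤ U ∧ ¬ B ≤ U) →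
        ∃ A ∈ 𝒜, ⁅B, B⁆ ≤ A ∧ ¬ B ≤ A ∧ B ≤ normalizer (A : Set G))
    (B : Subgroup G) (hBn : B.Normal) (hB : IsPGroup p B) : (B ⊓ sInf 𝒜).Normal := by
  induction hn : Nat.card B using Nat.strong_induction_on generalizing B with
  | _ k ih =>
  subst hn
  haveI := hBn
  have hlt : ∀ T : Subgroup G, T.Normal → T ≤ B → T ≠ B → (T ⊓ sInf 𝒜).Normal := fun T hT hTB hne' =>
    ih _ (lt_of_not_ge fun h => hne' (eq_of_le_of_card_ge hTB h)) T hT (hB.to_le hTB) rfl
  by_cases hgen : normalClosure ((B ⊓ sInf 𝒜 : Subgroup G) : Set G) ≠ B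
  · exact inf_normal_of_normalClosure_le hlt hgen
  push Not at hgen
  by_cases hbot : B = ⊥
  · rw [hbot, bot_inf_eq]; infer_instance
  obtain ⟨A₀, hA₀⟩ := hne
  have hBS : B ≤ (S : Subgroup G) := hB.le_sylow_of_normal S
  have hWS : (S : Subgroup G) ≤ normalizer ((sInf 𝒜 : Subgroup G) : Set G) := by
    have key : ∀ s ∈ (S : Subgroup G), ∀ w ∈ sInf 𝒜, s * w * s⁻¹ ∈ sInf 𝒜 := by
      intro s hs w hw
      rw [mem_sInf] at hw ⊢
      intro A hA
      obtain ⟨x, hx, hxe⟩ : s⁻¹ * (s * w * s⁻¹) * s ∈ A.map (MulAut.conj s⁻¹).toMonoidHom := by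
        have := hw _ (hinv _ le_rfl s⁻¹ (le_normalizer (inv_mem hs)) A hA (hle A hA))
        simpa [mul_assoc] using this
      have : x = s * w * s⁻¹ := (MulAut.conj s⁻¹).injective (by
        rw [show MulAut.conj s⁻¹ x = _ from hxe]; simp [mul_assoc])
      exact this ▸ hx
    intro s hs
    rw [mem_normalizer_iff]
    exact fun w => ⟨key s hs w, fun h => by simpa [mul_assoc] using key s⁻¹ (inv_mem hs) _ h⟩
  have hWab : IsMulCommutative (sInf 𝒜 : Subgroup G) := isMulCommutative_of_forall fun a ha b hb =>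
    mul_comm_of_isMulCommutative (hab A₀ hA₀) (sInf_le hA₀ ha) (sInf_le hA₀ hb)
  obtain ⟨hBW, hclass⟩ := derived_le_inf hBS hWS hWab hgen
    (hlt ⁅B, B⁆ inferInstance (commutator_le_self B) (commutator_lt_self hB hbot))
  by_cases hall : ∀ A ∈ 𝒜, B ≤ A
  · rw [inf_eq_left.2 (le_sInf hall)]; exact hBn
  push Not at hall
  obtain ⟨U, hU, hBU⟩ := hall
  obtain ⟨A, hA, -, hBA, hnorm⟩ := hrep B hBn hB hclass ⟨U, hU, hBW.trans (sInf_le hU), hBU⟩
  set K := (pCore p (G ⧸ centralizer (B : Set G))).comap (QuotientGroup.mk' (centralizer (B : Set G)))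
    with hK
  have hAK : A ≤ K := fun a ha =>
    hst B hB a (hle A hA ha) (commutator_commutator_zpowers_eq_bot (hab A hA) hnorm ha)
  exfalso
  refine hBA ?_
  rw [← hgen]
  refine (closure_le A).2 fun x hx => ?_
  obtain ⟨z, hz, hzx⟩ := Group.mem_conjugatesOfSet_iff.1 hx
  obtain ⟨g, rfl⟩ := isConj_iff.1 hzx
  rw [SetLike.mem_coe, Subgroup.mem_inf] at hz
  obtain ⟨n, hn, c, hc, rfl⟩ := exists_normalizer_mul_centralizer S B g
  have hcz : c * z * c⁻¹ = z := by
    rw [← mem_centralizer_iff.1 hc z hz.1, mul_inv_cancel_right]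
  have hA' := hinv _ inf_le_left n⁻¹ (inv_mem hn) A hA (le_inf (hle A hA) hAK)
  obtain ⟨y, hy, hyz⟩ := mem_sInf.1 hz.2 _ hA'
  have : n * c * z * (n * c)⁻¹ = y := by
    rw [show n * c * z * (n * c)⁻¹ = n * (c * z * c⁻¹) * n⁻¹ by simp [mul_assoc], hcz, ← hyz]
    simp [MulAut.conj_apply, mul_assoc]
  rw [SetLike.mem_coe, this]
  exact hy

/-- The generic ZJ theorem. -/
theorem sInf_normal (S : Sylow p G) (hst : StableOn p (S : Subgroup G))
    (hc : centralizer (pCore p G : Set G) ≤ pCore p G) (𝒜 : Set (Subgroup G))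
    (hne : 𝒜.Nonempty) (hle : ∀ A ∈ 𝒜, A ≤ (S : Subgroup G))
    (hab : ∀ A ∈ 𝒜, IsMulCommutative A)
    (hinv : ∀ Q : Subgroup G, Q ≤ S → ∀ n ∈ normalizer (Q : Set G), ∀ A ∈ 𝒜, A ≤ Q →
      A.map (MulAut.conj n).toMonoidHom ∈ 𝒜)
    (hrep : ∀ B : Subgroup G, B.Normal → IsPGroup p B → ⁅⁅B, B⁆, B⁆ = ⊥ →
      (∃ U ∈ 𝒜, ⁅B, B⁆ ≤ U ∧ ¬ B ≤ U) →
        ∃ A ∈ 𝒜, ⁅B, B⁆ ≤ A ∧ ¬ B ≤ A ∧ B ≤ normalizer (A : Set G)) :
    (sInf 𝒜).Normal := by
  obtain ⟨A₀, hA₀⟩ := hne
  have hWn : (S : Subgroup G) ≤ normalizer ((sInf 𝒜 : Subgroup G) : Set G) := by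
    intro s hs
    refine mem_normalizer_of_map_conj_eq (eq_of_le_of_card_ge ?_ ?_)
    · refine le_sInf fun A hA => ?_
      have h' := hinv _ le_rfl s⁻¹ (le_normalizer (inv_mem hs)) A hA (hle A hA)
      rintro _ ⟨w, hw, rfl⟩
      obtain ⟨y, hy, rfl⟩ := mem_sInf.1 hw _ h'
      simpa [MulAut.conj_apply, mul_assoc] using hy
    · rw [card_map_of_injective (MulAut.conj s).injective]
  have hWO : sInf 𝒜 ≤ pCore p G := by
    intro w hw
    have hq := commutator_commutator_zpowers_eq_bot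
      (isMulCommutative_of_forall fun a ha b hb => mul_comm_of_isMulCommutative (hab A₀ hA₀)
        (sInf_le hA₀ ha) (sInf_le hA₀ hb)) ((PCore.pCore_le_sylow S).trans hWn) hw
    have := hst (pCore p G) PCore.isPGroup_pCore w (hle A₀ hA₀ (sInf_le hA₀ hw)) hq
    rwa [PCore.comap_pCore_quotient _ (PCore.isPGroup_pCore.to_le hc)] at this
  rw [← inf_eq_right.2 hWO]
  exact inf_normal S hst 𝒜 ⟨A₀, hA₀⟩ hle hab hinv hrep _ inferInstance PCore.isPGroup_pCore

theorem isMaxAb_conj_of_stronglyClosed (S : Sylow p G) {D Q : Subgroup G}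
    (hD : Cfsg.IsStronglyClosed D (S : Subgroup G)) (hQ : Q ≤ (S : Subgroup G)) {n : G}
    (hn : n ∈ normalizer (Q : Set G)) {A : Subgroup G} (hA : IsMaxAb D A) (hAQ : A ≤ Q) :
    IsMaxAb D (A.map (MulAut.conj n).toMonoidHom) := by
  refine ⟨?_, isMulCommutative_map hA.2.1 _, fun C hC hCc =>
    (hA.2.2 C hC hCc).trans_eq (card_map_of_injective (MulAut.conj n).injective).symm⟩
  rintro _ ⟨a, ha, rfl⟩
  exact hD.2 a (hA.1 ha) n (hQ ((mem_normalizer_iff.1 hn a).1 (hAQ ha)))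

theorem isMaxEA_conj_of_stronglyClosed (S : Sylow p G) {D Q : Subgroup G}
    (hD : Cfsg.IsStronglyClosed D (S : Subgroup G)) (hQ : Q ≤ (S : Subgroup G)) {n : G}
    (hn : n ∈ normalizer (Q : Set G)) {A : Subgroup G} (hA : IsMaxEA p D A) (hAQ : A ≤ Q) :
    IsMaxEA p D (A.map (MulAut.conj n).toMonoidHom) := by
  refine ⟨?_, isElementaryAbelian_map hA.2.1 _, fun C hC hCc =>
    (hA.2.2 C hC hCc).trans_eq (card_map_of_injective (MulAut.conj n).injective).symm⟩
  rintro _ ⟨a, ha, rfl⟩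
  exact hD.2 a (hA.1 ha) n (hQ ((mem_normalizer_iff.1 hn a).1 (hAQ ha)))

omit [Finite G] in
theorem le_normalizer_of_stronglyClosed {P D : Subgroup G} (hD : Cfsg.IsStronglyClosed D P) :
    P ≤ normalizer (D : Set G) := by
  intro x hx
  rw [mem_normalizer_iff]
  intro d
  refine ⟨fun hd => hD.2 d hd x (mul_mem (mul_mem hx (hD.1 hd)) (inv_mem hx)), fun hd => ?_⟩
  have hdP : d ∈ P := by
    have := mul_mem (mul_mem (inv_mem hx) (hD.1 hd)) hx
    simpa [mul_assoc] using this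
  simpa [mul_assoc] using hD.2 _ hd x⁻¹ (by simpa [mul_assoc] using hdP)

/-- `Z(J(D))` is normal (abelian version). -/
theorem centerThompsonAOf_normal (h2 : p ≠ 2) (S : Sylow p G) {D : Subgroup G}
    (hD : Cfsg.IsStronglyClosed D (S : Subgroup G)) (hst : StableOn p (S : Subgroup G))
    (hc : centralizer (pCore p G : Set G) ≤ pCore p G) : (centerThompsonAOf D).Normal := by
  rw [← sInf_isMaxAb]
  refine sInf_normal S hst hc _ (exists_isMaxAb D) (fun A hA => hA.1.trans hD.1) (fun A hA => hA.2.1)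
    (fun Q hQ n hn A hA hAQ => isMaxAb_conj_of_stronglyClosed S hD hQ hn hA hAQ) ?_
  intro B _ hBp hB hU
  exact exists_normalized_maxAb h2 S.2 hD.1 (hBp.le_sylow_of_normal S)
    (le_normalizer_of_stronglyClosed hD) le_normalizer_of_normal hB hU

/-- `Ω₁(Z(J(D)))` is normal (elementary version). -/
theorem omegaOne_centerThompsonOf_normal (h2 : p ≠ 2) (S : Sylow p G) {D : Subgroup G}
    (hD : Cfsg.IsStronglyClosed D (S : Subgroup G)) (hst : StableOn p (S : Subgroup G))
    (hc : centralizer (pCore p G : Set G) ≤ pCore p G) :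
    (omegaOne p (centerThompsonOf p D)).Normal := by
  rw [← sInf_isMaxEA]
  refine sInf_normal S hst hc _ (exists_isMaxEA D) (fun A hA => hA.1.trans hD.1) (fun A hA => hA.2.1.1)
    (fun Q hQ n hn A hA hAQ => isMaxEA_conj_of_stronglyClosed S hD hQ hn hA hAQ) ?_
  intro B _ hBp hB hU
  exact exists_normalized_maxEA h2 S.2 hD.1 (hBp.le_sylow_of_normal S)
    (le_normalizer_of_stronglyClosed hD) le_normalizer_of_normal hB hU

omit [Finite G] hp in
theorem isStronglyClosed_self (P : Subgroup G) : Cfsg.IsStronglyClosed P P :=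
  ⟨le_rfl, fun _ _ _ h => h⟩

end Cfsg.Agent.Replacement
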