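import Cfsg.Agent.Lib.Quadratic.NaturalPair
import Cfsg.Agent.Lib.Quadratic.Stability
import Cfsg.Agent.Lib.Qd.Construct
import Cfsg.Agent.Lib.Replacement.ZJ
import Cfsg.Agent.Lib.Coprime.Commutator
import Cfsg.Agent.Lib.PGroup.Frattini

/-!
# `Qd(p)`-free groups are stable (Glauberman)

* `isPStableOn_of_not_involves`: `G` `Qd(p)`-free, `p` odd, `V` a normal `p`-subgroup ⇒ the elements
  acting quadratically on `V` lie in `O_p` modulo `C(V)`;
* `exists_unstable_elementary`: instability on a normal `p`-subgroup appears on an elementary abelian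
  one of a quotient.
-/

set_option autoImplicit false

namespace Cfsg.Agent.Replacement

open Subgroup
open scoped commutatorElement MatrixGroups

variable {G : Type*} [Group G] {p : ℕ} [hp : Fact p.Prime]

/-- Stability on a normal `p`-subgroup follows from stability on its Frattini quotient. -/
theorem isPStableOn_of_frattini_quotient [Finite G] (V : Subgroup G) [V.Normal] (hV : IsPGroup p V)
    (h : ∀ (N : Subgroup G) [N.Normal] (U : Subgroup (G ⧸ N)) [U.Normal],
      IsElementaryAbelian p U → IsPStableOn p U) : IsPStableOn p V := by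
  set Φ := (frattini ↥V).map V.subtype with hΦ
  have hΦn : Φ.Normal := by
    have : (frattini ↥V).Characteristic := frattini_characteristic
    exact ConjAct.normal_of_characteristic_of_normal
  set U := V.map (QuotientGroup.mk' Φ) with hU
  have hUn : U.Normal := Normal.map inferInstance _ (QuotientGroup.mk'_surjective Φ)
  have hUe : IsElementaryAbelian p U := by
    refine PGroup.isElementaryAbelian_of_forall ?_ ?_
    · rintro _ ⟨x, hx, rfl⟩ _ ⟨y, hy, rfl⟩
      have hm : ⁅(⟨x, hx⟩ : V), ⟨y, hy⟩⁆ ∈ frattini ↥V :=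
        PGroup.commutator_le_frattini hV
          (_root_.commutator_def (G := V) ▸ commutator_mem_commutator (mem_top _) (mem_top _))
      have hm' : ⁅x, y⁆ ∈ Φ := ⟨_, hm, rfl⟩
      rw [← commutatorElement_eq_one_iff_mul_comm, ← map_commutatorElement]
      exact (QuotientGroup.eq_one_iff _).mpr hm'
    · rintro _ ⟨x, hx, rfl⟩
      rw [← map_pow]
      exact (QuotientGroup.eq_one_iff _).mpr ⟨_, PGroup.pow_mem_frattini hV ⟨x, hx⟩, rfl⟩
  intro a ha
  have hq : ⁅⁅U, zpowers (QuotientGroup.mk' Φ a)⁆, zpowers (QuotientGroup.mk' Φ a)⁆ = ⊥ := by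
    rw [← MonoidHom.map_zpowers, hU, ← map_commutator, ← map_commutator, ha, Subgroup.map_bot]
  have hmem := h Φ U hUe _ hq
  set f := (QuotientGroup.mk' (centralizer (U : Set (G ⧸ Φ)))).comp (QuotientGroup.mk' Φ) with hf
  have hCle : centralizer (V : Set G) ≤ f.ker := by
    intro g hg
    refine (QuotientGroup.eq_one_iff _).2 (mem_centralizer_iff.2 ?_)
    rintro _ ⟨v, hv, rfl⟩
    rw [← map_mul, ← map_mul, mem_centralizer_iff.1 hg v hv]
  set π := QuotientGroup.lift (centralizer (V : Set G)) f hCle with hπ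
  have hπs : Function.Surjective π := by
    intro y
    obtain ⟨z, rfl⟩ := QuotientGroup.mk'_surjective _ y
    obtain ⟨g, rfl⟩ := QuotientGroup.mk'_surjective _ z
    exact ⟨QuotientGroup.mk g, rfl⟩
  have hker : IsPGroup p π.ker := by
    rintro ⟨x, hx⟩
    obtain ⟨g, rfl⟩ := QuotientGroup.mk_surjective x
    obtain ⟨k, m, hm, hkm⟩ := Nat.exists_eq_pow_mul_and_not_dvd (orderOf_pos g).ne' p hp.out.ne_one
    refine ⟨k, Subtype.ext ?_⟩
    rw [Subgroup.coe_pow, Subgroup.coe_one, ← QuotientGroup.mk_pow, QuotientGroup.eq_one_iff]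
    refine (Coprime.le_centralizer_of_frattini (A := zpowers (g ^ p ^ k)) (K := V)
      (by rw [normalizer_eq_top]; exact le_top) ?_ ?_) (mem_zpowers _)
    · obtain ⟨i, hi⟩ := IsPGroup.iff_card.mp (hV.to_subgroup (frattini ↥V))
      rw [Nat.card_zpowers, hi, orderOf_pow, hkm, Nat.gcd_eq_right (Dvd.intro _ rfl),
        Nat.mul_div_cancel_left _ (pow_pos hp.out.pos k)]
      exact Nat.Coprime.pow_right i ((hp.out.coprime_iff_not_dvd.2 hm).symm)
    · intro b hb v hv
      have hker' : zpowers (g ^ p ^ k) ≤ f.ker := zpowers_le.2 (pow_mem (show g ∈ f.ker from hx) _)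
      have hc := (QuotientGroup.eq_one_iff (N := centralizer (U : Set (G ⧸ Φ)))
        (QuotientGroup.mk' Φ b)).1 (hker' hb)
      have h1 := mem_centralizer_iff.1 hc _ ⟨v, hv, rfl⟩
      rw [← map_mul, ← map_mul] at h1
      have h2 : QuotientGroup.mk' Φ (b * v * b⁻¹ * v⁻¹) = 1 := by
        rw [map_mul, map_mul, ← h1, map_inv, map_inv, map_mul]; group
      exact (QuotientGroup.eq_one_iff _).1 h2
  rw [← PCore.comap_pCore_of_ker π hπs hker]
  exact hmem

/-- A normal elementary abelian subgroup with an unstable quadratic element yields `Qd(p)`. -/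
theorem involves_qd_of_not_isPStableOn [Finite G] (hp2 : p ≠ 2) (V : Subgroup G) [V.Normal]
    (hV : IsElementaryAbelian p V) (h : ¬ IsPStableOn p V) : Involves ↥(qd p) G := by
  by_contra hq
  refine h (Quadratic.isPStableOn_of_no_pair V fun a b ha hb hnp => hq ?_)
  obtain ⟨V₁, X, hle, -, hXV, α, c, hα, hc, he⟩ := Quadratic.exists_natural_of_pair hp2 V _ hV
    (by rw [normalizer_eq_top]; exact le_top) rfl ha hb hnp
  refine Qd.involves_qd_of_natural hp2 V₁ X ?_ hXV α c hα hc he
  have hVp : IsPGroup p V := fun v => ⟨1, Subtype.ext (by rw [pow_one]; exact hV.2 _ v.2)⟩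
  exact hVp.to_le hle

/-- **Glauberman**: a `Qd(p)`-free group is stable on its normal `p`-subgroups, `p` odd. -/
theorem isPStableOn_of_not_involves [Finite G] (hp2 : p ≠ 2) (hfree : ¬ Involves ↥(qd p) G)
    (V : Subgroup G) [V.Normal] (hV : IsPGroup p V) : IsPStableOn p V :=
  isPStableOn_of_frattini_quotient V hV fun N _ U _ hU => by
    by_contra h
    exact hfree (Qd.involves_of_involves_quotient N (involves_qd_of_not_isPStableOn hp2 U hU h))

theorem stableOn_of_not_involves [Finite G] (hp2 : p ≠ 2) (hfree : ¬ Involves ↥(qd p) G)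
    (S : Subgroup G) : StableOn p S :=
  stableOn_of_isPStableOn S fun V hV hVp =>
    haveI := hV
    isPStableOn_of_not_involves hp2 hfree V hVp

omit hp in
/-- `SL(2, p)` sections pass from quotients to the group. -/
theorem exists_section_of_surjective {M : Type*} [Group M] {K : Subgroup G} (φ : K →* M)
    (hφ : Function.Surjective φ) : ∃ (K L : Subgroup G) (_ : (L.subgroupOf K).Normal), K ≤ ⊤ ∧
      Nonempty ((K ⧸ L.subgroupOf K) ≃* M) := by
  obtain ⟨K, L, hL, hiso⟩ := Qd.involves_of_surjective φ hφ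
  exact ⟨K, L, hL, le_top, hiso⟩

/-- An unstable normal `p`-subgroup gives a subgroup mapping onto `SL(2, p)`. -/
theorem exists_SL2_of_not_isPStableOn [Finite G] (hp2 : p ≠ 2) (V : Subgroup G) [V.Normal]
    (hV : IsPGroup p V) (h : ¬ IsPStableOn p V) :
    ∃ (K : Subgroup G) (φ : K →* SL(2, ZMod p)), Function.Surjective φ := by
  by_contra hno
  refine h (isPStableOn_of_frattini_quotient V hV fun N _ U _ hU => ?_)
  refine Quadratic.isPStableOn_of_no_pair U fun a b ha hb hnp => hno ?_
  obtain ⟨V₁, X, -, -, -, α, -, hα, -, -⟩ := Quadratic.exists_natural_of_pair hp2 U _ hU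
    (by rw [normalizer_eq_top]; exact le_top) rfl ha hb hnp
  let f : X.comap (QuotientGroup.mk' N) →* X :=
    ((QuotientGroup.mk' N).comp (X.comap (QuotientGroup.mk' N)).subtype).codRestrict X fun x => x.2
  have hf : Function.Surjective f := by
    rintro ⟨y, hy⟩
    obtain ⟨x, rfl⟩ := QuotientGroup.mk'_surjective N y
    exact ⟨⟨x, hy⟩, rfl⟩
  exact ⟨_, α.comp f, hα.comp hf⟩

end Cfsg.Agent.Replacement
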