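import Cfsg.Agent.Lib.Replacement.ZJ

/-!
# Normality of the full centre `Z(J(S))` of the elementary Thompson subgroup (`p` odd)

The intersection of the family only gives `Ω₁(Z(J(S)))`; the replacement is applied to `Ω₁(B)`
and `C(Ω₁(B))/C(B)` is a `p`-group.
-/

set_option autoImplicit false

namespace Cfsg.Agent.Replacement

open scoped commutatorElement Pointwise
open Subgroup Cfsg.Agent.PGroup

universe u

variable {G : Type u} [Group G] [Finite G] {p : ℕ} [hp : Fact p.Prime]

/-- For `p` odd, `C(Ω₁(B))/C(B)` is a `p`-group, so `O_p` of the two automizers have one preimage. -/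
theorem comap_pCore_centralizer_omegaOne (h2 : p ≠ 2) (B : Subgroup G) [B.Normal] (hB : IsPGroup p B)
    [(omegaOne p B).Normal] :
    (pCore p (G ⧸ centralizer (omegaOne p B : Set G))).comap
        (QuotientGroup.mk' (centralizer (omegaOne p B : Set G))) ≤
      (pCore p (G ⧸ centralizer (B : Set G))).comap (QuotientGroup.mk' (centralizer (B : Set G))) := by
  set C := centralizer (B : Set G)
  set C₀ := centralizer (omegaOne p B : Set G)
  have hC : C ≤ C₀ := centralizer_le (omegaOne_le B)
  let f : G ⧸ C →* G ⧸ C₀ := QuotientGroup.map C C₀ (MonoidHom.id G) hC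
  have hker : IsPGroup p f.ker := by
    refine PCore.isPGroup_equiv_iff (MulEquiv.refl f.ker) |>.1 ?_
    rw [IsPGroup]
    rintro ⟨y, hy⟩
    obtain ⟨x, rfl⟩ := QuotientGroup.mk'_surjective C y
    have hx : x ∈ C₀ := (QuotientGroup.eq_one_iff x).1 hy
    obtain ⟨k, m, hm, hxm⟩ : ∃ k m : ℕ, ¬ p ∣ m ∧ orderOf x = p ^ k * m :=
      Nat.exists_eq_pow_mul_and_not_dvd (orderOf_pos x).ne' p hp.out.ne_one
    refine ⟨k, Subtype.ext ?_⟩
    show (QuotientGroup.mk' C x) ^ p ^ k = 1
    rw [← map_pow]
    refine (QuotientGroup.eq_one_iff _).2 ?_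
    have hord : (Nat.card (zpowers (x ^ p ^ k))).Coprime p := by
      rw [Nat.card_zpowers, orderOf_pow, hxm, Nat.gcd_mul_right_left,
        Nat.mul_div_cancel_left _ (pow_pos hp.out.pos k)]
      exact (hp.out.coprime_iff_not_dvd.2 hm).symm
    refine Coprime.le_centralizer_of_fix_pow_eq_one h2 B _ hB le_normalizer_of_normal hord ?_
      (mem_zpowers _)
    intro z hz hzp
    exact zpowers_le.2 (mem_centralizer_singleton_iff.2
      (mem_centralizer_iff.1 (pow_mem hx _) z (mem_omegaOne_of_pow_eq_one hz hzp)).symm)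
  have hsurj : Function.Surjective f := fun y => by
    obtain ⟨g, rfl⟩ := QuotientGroup.mk'_surjective C₀ y
    exact ⟨QuotientGroup.mk' C g, rfl⟩
  rw [← PCore.comap_pCore_of_ker f hsurj hker, comap_comap]
  exact le_rfl

theorem centerThompsonOf_isMulCommutative (P : Subgroup G) :
    IsMulCommutative (centerThompsonOf p P : Subgroup G) :=
  isMulCommutative_of_forall fun _ ha _ hb =>
    mem_centralizer_iff.1 (Subgroup.mem_inf.1 hb).2 _ (Subgroup.mem_inf.1 ha).1

omit [Finite G] hp in
theorem centralizer_normalizer_le (J : Subgroup G) :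
    normalizer (J : Set G) ≤ normalizer ((J ⊓ centralizer (J : Set G) : Subgroup G) : Set G) := by
  intro g hg
  rw [mem_normalizer_iff]
  intro x
  simp only [Subgroup.mem_inf]
  rw [← mem_normalizer_iff.1 hg x, and_congr_right_iff]
  intro _
  simp only [mem_centralizer_iff, SetLike.mem_coe]
  constructor
  · intro h j hj
    have h' := h (g⁻¹ * j * g) ((mem_normalizer_iff.1 hg _).2 (by simpa [mul_assoc] using hj))
    have h'' := congrArg (fun t => g * t * g⁻¹) h'
    simpa [mul_assoc] using h''
  · intro h j hj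
    have h' := h (g * j * g⁻¹) ((mem_normalizer_iff.1 hg j).1 hj)
    exact mul_left_cancel (a := g) (mul_right_cancel (b := g⁻¹) (by simpa [mul_assoc] using h'))

/-- `B ∩ Z(J(S))` is normal for every normal `p`-subgroup `B`. -/
theorem inf_centerThompsonOf_normal (h2 : p ≠ 2) (S : Sylow p G) (hst : StableOn p (S : Subgroup G))
    (B : Subgroup G) (hBn : B.Normal) (hB : IsPGroup p B) :
    (B ⊓ centerThompsonOf p (S : Subgroup G)).Normal := by
  induction hn : Nat.card B using Nat.strong_induction_on generalizing B with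
  | _ k ih =>
  subst hn
  haveI := hBn
  set J := thompsonSubgroupOf p (S : Subgroup G) with hJ
  set Y := centerThompsonOf p (S : Subgroup G) with hY
  have hlt : ∀ T : Subgroup G, T.Normal → T ≤ B → T ≠ B → (T ⊓ Y).Normal := fun T hT hTB hne' =>
    ih _ (lt_of_not_ge fun h => hne' (eq_of_le_of_card_ge hTB h)) T hT (hB.to_le hTB) rfl
  by_cases hgen : normalClosure ((B ⊓ Y : Subgroup G) : Set G) ≠ B
  · exact inf_normal_of_normalClosure_le hlt hgen
  push Not at hgen
  by_cases hbot : B = ⊥
  · rw [hbot, bot_inf_eq]; infer_instance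
  have hBS : B ≤ (S : Subgroup G) := hB.le_sylow_of_normal S
  have hYS : (S : Subgroup G) ≤ normalizer (Y : Set G) :=
    (le_normalizer.trans (normalizer_le_normalizer_thompsonOf (S : Subgroup G))).trans
      (centralizer_normalizer_le J)
  obtain ⟨hBY, hclass⟩ := derived_le_inf hBS hYS (centerThompsonOf_isMulCommutative _) hgen
    (hlt ⁅B, B⁆ inferInstance (commutator_le_self B) (commutator_lt_self hB hbot))
  set B₀ := omegaOne p B with hB₀
  haveI : B₀.Normal := omegaOne_normal B
  have hB₀le : B₀ ≤ B := omegaOne_le B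
  -- `Ω₁(B)` has exponent `p`
  have hpow : ∀ x ∈ B₀, x ^ p = 1 := by
    have hcen : commutator B ≤ Subgroup.center B := by
      intro x hx
      rw [mem_center_iff]
      intro y
      have hxB : (x : G) ∈ ⁅B, B⁆ := map_subtype_commutator B ▸ mem_map_of_mem _ hx
      exact Subtype.ext
        (mem_centralizer_iff.1 (commutator_eq_bot_iff_le_centralizer.1 hclass hxB) y y.2)
    intro x hx
    have hs : B₀ ≤ (closure {z : B | z ^ p = 1}).map B.subtype := by
      rw [hB₀, omegaOne_le_iff]
      intro z hz hzp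
      exact ⟨⟨z, hz⟩, subset_closure (Subtype.ext (by simpa using hzp)), rfl⟩
    obtain ⟨z, hz, rfl⟩ := hs hx
    have := pow_eq_one_of_mem_closure hp.out h2 hcen (fun w hw => hw) hz
    simpa using congrArg Subtype.val this
  have hW : sInf {A : Subgroup G | IsMaxEA p (S : Subgroup G) A} = omegaOne p Y :=
    sInf_isMaxEA p (S : Subgroup G)
  have hclass₀ : ⁅⁅B₀, B₀⁆, B₀⁆ = ⊥ :=
    le_bot_iff.1 ((commutator_mono (commutator_mono hB₀le hB₀le) hB₀le).trans hclass.le)
  have hB₀' : ∀ A, IsMaxEA p (S : Subgroup G) A → ⁅B₀, B₀⁆ ≤ A := fun A hA => by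
    refine le_trans ?_ (sInf_le (show A ∈ {A : Subgroup G | IsMaxEA p (S : Subgroup G) A} from hA))
    rw [hW]
    intro x hx
    exact mem_omegaOne_of_pow_eq_one (hBY (commutator_mono hB₀le hB₀le hx))
      (hpow x ((commutator_le_self B₀) hx))
  set K := (pCore p (G ⧸ centralizer (B : Set G))).comap (QuotientGroup.mk' (centralizer (B : Set G)))
    with hK
  have hquad : ∀ A, IsMaxEA p (S : Subgroup G) A → B₀ ≤ normalizer (A : Set G) → A ≤ K :=
    fun A hA hn a ha => comap_pCore_centralizer_omegaOne h2 B hB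
      (hst B₀ (hB.to_le hB₀le) a (hA.1 ha) (commutator_commutator_zpowers_eq_bot hA.2.1.1 hn ha))
  have hconj : ∀ z ∈ B ⊓ Y, ∀ g : G, ∃ n ∈ normalizer (((S : Subgroup G) ⊓ K : Subgroup G) : Set G),
      g * z * g⁻¹ = n * z * n⁻¹ := by
    intro z hz g
    obtain ⟨n, hn, c, hc, rfl⟩ := exists_normalizer_mul_centralizer S B g
    refine ⟨n, hn, ?_⟩
    rw [show n * c * z * (n * c)⁻¹ = n * (c * z * c⁻¹) * n⁻¹ by simp [mul_assoc],
      ← mem_centralizer_iff.1 hc z (Subgroup.mem_inf.1 hz).1, mul_inv_cancel_right]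
  by_cases hall : ∀ A, IsMaxEA p (S : Subgroup G) A → B₀ ≤ A
  · -- all maximal subgroups lie in `K`, so `N(S ∩ K)` normalizes `J`
    have hJQ : J ≤ (S : Subgroup G) ⊓ K := by
      rw [hJ, thompsonSubgroupOf_eq]
      exact sSup_le fun A hA => le_inf hA.1 (hquad A hA ((hall A hA).trans le_normalizer))
    have hN : normalizer (((S : Subgroup G) ⊓ K : Subgroup G) : Set G) ≤ normalizer (Y : Set G) := by
      refine le_trans ?_ (centralizer_normalizer_le J)
      rw [hJ, ← thompsonSubgroupOf_eq_of_le hJQ inf_le_left]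
      exact normalizer_le_normalizer_thompsonOf _
    have hBY' : B ≤ Y := by
      rw [← hgen]
      refine (closure_le Y).2 fun x hx => ?_
      obtain ⟨z, hz, hzx⟩ := Group.mem_conjugatesOfSet_iff.1 hx
      obtain ⟨g, rfl⟩ := isConj_iff.1 hzx
      obtain ⟨n, hn, he⟩ := hconj z hz g
      rw [SetLike.mem_coe, he]
      exact (mem_normalizer_iff.1 (hN hn) z).1 (Subgroup.mem_inf.1 hz).2
    rw [inf_eq_left.2 hBY']; exact hBn
  · push Not at hall
    obtain ⟨U, hU, hBU⟩ := hall
    obtain ⟨A, hA, -, hBA, hnorm⟩ := exists_normalized_maxEA h2 (D := (S : Subgroup G)) S.2 le_rfl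
      (hB₀le.trans hBS) le_normalizer le_normalizer_of_normal hclass₀ ⟨U, hU, hB₀' U hU, hBU⟩
    exfalso
    apply hBA
    have hBC : B ≤ centralizer (A : Set G) := by
      rw [← hgen]
      refine (closure_le (centralizer (A : Set G))).2 fun x hx => ?_
      obtain ⟨z, hz, hzx⟩ := Group.mem_conjugatesOfSet_iff.1 hx
      obtain ⟨g, rfl⟩ := isConj_iff.1 hzx
      obtain ⟨n, hn, he⟩ := hconj z hz g
      rw [SetLike.mem_coe, he, mem_centralizer_iff]
      intro a ha
      have hA' := isMaxEA_conj_of_stronglyClosed S (isStronglyClosed_self _) inf_le_left (inv_mem hn)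
        hA (le_inf hA.1 (hquad A hA hnorm))
      have h := mem_centralizer_iff.1 (Subgroup.mem_inf.1 (Subgroup.mem_inf.1 hz).2).2 _
        (le_thompsonSubgroupOf hA' (mem_map_of_mem _ ha))
      have h' := congrArg (fun t => n * t * n⁻¹) h
      simpa [MulAut.conj_apply, mul_assoc] using h'
    intro x hx
    exact omegaOne_centralizer_le_of_isMaxEA hA
      (mem_omegaOne_of_pow_eq_one (Subgroup.mem_inf.2 ⟨hBS (hB₀le hx), hBC (hB₀le hx)⟩) (hpow x hx))

/-- The full centre `Z(J(S))` of the elementary Thompson subgroup is normal. -/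
theorem centerThompsonOf_normal (h2 : p ≠ 2) (S : Sylow p G) (hst : StableOn p (S : Subgroup G))
    (hc : centralizer (pCore p G : Set G) ≤ pCore p G) :
    (centerThompsonOf p (S : Subgroup G)).Normal := by
  have hle : centerThompsonOf p (S : Subgroup G) ≤ (S : Subgroup G) :=
    inf_le_left.trans (thompsonSubgroupOf_le _)
  have hYS : (S : Subgroup G) ≤ normalizer (centerThompsonOf p (S : Subgroup G) : Set G) :=
    (le_normalizer.trans (normalizer_le_normalizer_thompsonOf (S : Subgroup G))).trans
      (centralizer_normalizer_le _)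
  have hWO : centerThompsonOf p (S : Subgroup G) ≤ pCore p G := by
    intro w hw
    have := hst (pCore p G) PCore.isPGroup_pCore w (hle hw)
      (commutator_commutator_zpowers_eq_bot (centerThompsonOf_isMulCommutative _)
        ((PCore.pCore_le_sylow S).trans hYS) hw)
    rwa [PCore.comap_pCore_quotient _ (PCore.isPGroup_pCore.to_le hc)] at this
  rw [← inf_eq_right.2 hWO]
  exact inf_centerThompsonOf_normal h2 S hst _ inferInstance PCore.isPGroup_pCore

end Cfsg.Agent.Replacement
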