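import Cfsg.Agent.Lib.PGroup.ElementaryAbelian
import Cfsg.Agent.Lib.PGroup.Class2
import Mathlib.GroupTheory.Nilpotent
import Mathlib.GroupTheory.Exponent
import Mathlib.GroupTheory.Index

/-!
# Glauberman's replacement theorem

* `exists_mem_normalizer_of_not_le`: the growth step;
* `exists_replacement`: Glauberman's replacement theorem for `p` odd;
* `exists_normalized`: a family of abelian subgroups closed under replacement has a member normalized by `B`.
-/

set_option autoImplicit false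

namespace Cfsg.Agent.Replacement

open scoped commutatorElement Pointwise
open Subgroup Cfsg.Agent.PGroup

universe u

variable {G : Type u} [Group G]

theorem relIndex_sup_of_le_normalizer {A K : Subgroup G} (h : K ≤ normalizer (A : Set G)) :
    A.relIndex (A ⊔ K) = A.relIndex K := by
  have hA : A ≤ normalizer (A : Set G) := le_normalizer
  haveI : (A.subgroupOf (normalizer (A : Set G))).Normal := normal_in_normalizer
  have h' := relIndex_sup_right (H := K.subgroupOf (normalizer (A : Set G)))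
    (K := A.subgroupOf (normalizer (A : Set G)))
  rw [← subgroupOf_sup h hA, relIndex_subgroupOf (sup_le h hA), relIndex_subgroupOf h, sup_comm] at h'
  exact h'

theorem card_inf_mul_relIndex (H K : Subgroup G) :
    Nat.card ↥(H ⊓ K) * H.relIndex K = Nat.card K := by
  rw [← inf_relIndex_right, ← Nat.card_congr (subgroupOfEquivOfLe (inf_le_right : H ⊓ K ≤ K)).toEquiv]
  exact card_mul_index _

theorem mem_omegaOne_iff_of_comm {p : ℕ} {A : Subgroup G} (hA : IsMulCommutative A) {x : G} :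
    x ∈ omegaOne p A ↔ x ∈ A ∧ x ^ p = 1 :=
  ⟨fun h => ⟨omegaOne_le A h, (isElementaryAbelian_omegaOne hA).2 x h⟩,
    fun h => mem_omegaOne_of_pow_eq_one h.1 h.2⟩

/-- The hypotheses on an element `b ∈ B` used to build a replacement of the abelian subgroup `A`. -/
structure Setup (A B : Subgroup G) (b : G) : Prop where
  comm : IsMulCommutative A
  norm : A ≤ normalizer (B : Set G)
  mem : b ∈ B
  comm_le : ⁅B, B⁆ ≤ A
  class2 : ⁅⁅B, B⁆, B⁆ = ⊥
  left : A.map (MulAut.conj b).toMonoidHom ≤ normalizer (A : Set G)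
  right : A ≤ normalizer ((A.map (MulAut.conj b).toMonoidHom : Subgroup G) : Set G)

/-- The replacement of `A₁ ≤ A`. -/
def star (A A₁ : Subgroup G) (b : G) : Subgroup G :=
  (A₁ ⊓ A.map (MulAut.conj b).toMonoidHom) ⊔ closure ((fun a => ⁅b, a⁆) '' (A₁ : Set G))

section Facts

variable {A B : Subgroup G} {b : G}

theorem conj_eq (a : G) : MulAut.conj b a = ⁅b, a⁆ * a := by
  simp [MulAut.conj_apply, commutatorElement_def, mul_assoc]

theorem comm_eq (a : G) : ⁅b, a⁆ = MulAut.conj b a * a⁻¹ := by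
  simp [MulAut.conj_apply, commutatorElement_def, mul_assoc]

theorem Setup.commute (h : Setup A B b) {x y : G} (hx : x ∈ A) (hy : y ∈ A) : Commute x y :=
  mul_comm_of_isMulCommutative h.comm hx hy

theorem Setup.conj_mem (h : Setup A B b) {a : G} (ha : a ∈ A) :
    MulAut.conj b a ∈ A.map (MulAut.conj b).toMonoidHom :=
  mem_map_of_mem _ ha

theorem Setup.commute' (h : Setup A B b) {x y : G}
    (hx : x ∈ A.map (MulAut.conj b).toMonoidHom) (hy : y ∈ A.map (MulAut.conj b).toMonoidHom) :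
    Commute x y := by
  obtain ⟨x, hx, rfl⟩ := hx
  obtain ⟨y, hy, rfl⟩ := hy
  exact (h.commute hx hy).map _

theorem Setup.comm_mem (h : Setup A B b) {x y : G} (hx : x ∈ A)
    (hy : y ∈ A.map (MulAut.conj b).toMonoidHom) :
    ⁅x, y⁆ ∈ A ⊓ A.map (MulAut.conj b).toMonoidHom := by
  rw [Subgroup.mem_inf]
  constructor
  · have h1 := (mem_normalizer_iff.1 (h.left hy) x⁻¹).1 (inv_mem hx)
    have : ⁅x, y⁆ = x * (y * x⁻¹ * y⁻¹) := by simp [commutatorElement_def, mul_assoc]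
    rw [this]; exact mul_mem hx h1
  · have h1 := (mem_normalizer_iff.1 (h.right hx) y).1 hy
    have : ⁅x, y⁆ = x * y * x⁻¹ * y⁻¹ := commutatorElement_def x y
    rw [this]; exact mul_mem h1 (inv_mem hy)

theorem Setup.comm_mem' (h : Setup A B b) {x y : G} (hx : x ∈ A)
    (hy : y ∈ A.map (MulAut.conj b).toMonoidHom) :
    ⁅y, x⁆ ∈ A ⊓ A.map (MulAut.conj b).toMonoidHom := by
  rw [← commutatorElement_inv]; exact inv_mem (h.comm_mem hx hy)

theorem Setup.c_mem (h : Setup A B b) {a : G} (ha : a ∈ A) : ⁅b, a⁆ ∈ B := by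
  have h1 := (mem_normalizer_iff.1 (h.norm ha) b⁻¹).1 (inv_mem h.mem)
  rw [show ⁅b, a⁆ = b * (a * b⁻¹ * a⁻¹) by simp [commutatorElement_def, mul_assoc]]
  exact mul_mem h.mem h1

theorem Setup.comm_fixed (h : Setup A B b) {d : G} (hd : d ∈ ⁅B, B⁆) :
    MulAut.conj b d = d := by
  have := mem_centralizer_iff.1 (commutator_eq_bot_iff_le_centralizer.1 h.class2 hd) b h.mem
  rw [MulAut.conj_apply, this, mul_inv_cancel_right]

theorem Setup.comm_mem_inf (h : Setup A B b) {d : G} (hd : d ∈ ⁅B, B⁆) :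
    d ∈ A ⊓ A.map (MulAut.conj b).toMonoidHom :=
  ⟨h.comm_le hd, d, h.comm_le hd, h.comm_fixed hd⟩

theorem Setup.inf_commute_c (h : Setup A B b) {z a : G}
    (hz : z ∈ A ⊓ A.map (MulAut.conj b).toMonoidHom) (ha : a ∈ A) : Commute z ⁅b, a⁆ := by
  rw [comm_eq]
  exact (h.commute' hz.2 (h.conj_mem ha)).mul_right (h.commute hz.1 (inv_mem ha))

/-- The key computation: the elements `⁅b, a⁆` commute with each other. -/
theorem Setup.c_commute (h : Setup A B b) (hodd : ∀ x ∈ B, x * x = 1 → x = 1) {a a' : G}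
    (ha : a ∈ A) (ha' : a' ∈ A) : Commute ⁅b, a⁆ ⁅b, a'⁆ := by
  have f1 : ∀ a a', a ∈ A → a' ∈ A → ⁅⁅b, a⁆, a'⁆ = ⁅MulAut.conj b a, a'⁆ := by
    intro a a' ha ha'
    rw [comm_eq (b := b) a, commutatorElement_mul_left_eq_conj_mul,
      commutatorElement_eq_one_iff_commute.2 (h.commute (inv_mem ha) ha'), mul_one, mul_inv_cancel,
      one_mul]
  have hu : ∀ a a', a ∈ A → a' ∈ A →
      ⁅MulAut.conj b a, a'⁆ ∈ A ⊓ A.map (MulAut.conj b).toMonoidHom :=
    fun a a' ha ha' => h.comm_mem' ha' (h.conj_mem ha)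
  have hv : ∀ a a', a ∈ A → a' ∈ A → ⁅⁅b, a⁆, ⁅b, a'⁆⁆ ∈ ⁅B, B⁆ := fun a a' ha ha' =>
    commutator_mem_commutator (h.c_mem ha) (h.c_mem ha')
  have f2 : ∀ a a', a ∈ A → a' ∈ A → MulAut.conj b ⁅MulAut.conj b a, a'⁆ =
      ⁅⁅b, a⁆, ⁅b, a'⁆⁆ * ⁅MulAut.conj b a, a'⁆ := by
    intro a a' ha ha'
    have hd : ⁅b, ⁅b, a⁆⁆ ∈ ⁅B, B⁆ := commutator_mem_commutator h.mem (h.c_mem ha)
    have hdA := h.comm_mem_inf hd
    have hpp : MulAut.conj b (MulAut.conj b a) = ⁅b, ⁅b, a⁆⁆ * ⁅b, a⁆ * MulAut.conj b a := by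
      conv_lhs => rw [conj_eq (b := b) a, map_mul, conj_eq (b := b) ⁅b, a⁆]
    rw [map_commutatorElement, hpp, commutatorElement_mul_left_eq_conj_mul,
      commutatorElement_eq_one_iff_commute.2 (h.commute' (h.conj_mem ha) (h.conj_mem ha')),
      mul_one, mul_inv_cancel, one_mul, commutatorElement_mul_left_eq_conj_mul,
      commutatorElement_eq_one_iff_commute.2 (h.commute' hdA.2 (h.conj_mem ha')), mul_one]
    conv_lhs => rw [conj_eq (b := b) a', commutatorElement_mul_right_eq_mul_conj, f1 a a' ha ha',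
      mul_assoc _ ⁅b, a'⁆, ← (h.inf_commute_c (hu a a' ha ha') ha').eq]
    simp only [mul_assoc, mul_inv_cancel_left]
    rw [← mul_assoc ⁅⁅b, a⁆, ⁅b, a'⁆⁆, ← mul_assoc ⁅b, ⁅b, a⁆⁆,
      (h.commute hdA.1 (mul_mem (h.comm_le (hv a a' ha ha')) (hu a a' ha ha').1)).eq,
      mul_inv_cancel_right]
  have f3 : ∀ a a', a ∈ A → a' ∈ A → ⁅MulAut.conj b a', a⁆ =
      ⁅⁅b, a⁆, ⁅b, a'⁆⁆ * ⁅MulAut.conj b a, a'⁆ := by
    intro a a' ha ha'
    have h0 : ⁅MulAut.conj b a, MulAut.conj b a'⁆ = 1 :=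
      commutatorElement_eq_one_iff_commute.2 (h.commute' (h.conj_mem ha) (h.conj_mem ha'))
    rw [conj_eq (b := b) a, conj_eq (b := b) a', commutatorElement_mul_left_eq_conj_mul,
      commutatorElement_mul_right_eq_mul_conj, commutatorElement_eq_one_iff_commute.2 (h.commute ha ha'),
      mul_one, mul_inv_cancel_right, commutatorElement_mul_right_eq_mul_conj] at h0
    rw [← commutatorElement_inv ⁅b, a'⁆ a, f1 a' a ha' ha, f1 a a' ha ha',
      ← (h.inf_commute_c (inv_mem (hu a' a ha' ha)) ha).eq, mul_inv_cancel_right,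
      mul_assoc _ ⁅b, a'⁆, ← (h.inf_commute_c (hu a a' ha ha') ha').eq] at h0
    simp only [mul_assoc, mul_inv_cancel, mul_one] at h0
    exact inv_mul_eq_one.1 h0
  have hv2 : ⁅⁅b, a⁆, ⁅b, a'⁆⁆ * ⁅⁅b, a⁆, ⁅b, a'⁆⁆ = 1 := by
    set v := ⁅⁅b, a⁆, ⁅b, a'⁆⁆ with hvdef
    have h1 := f2 a' a ha' ha
    rw [← commutatorElement_inv ⁅b, a⁆ ⁅b, a'⁆, ← hvdef, f3 a a' ha ha', inv_mul_cancel_left, map_mul,
      f2 a a' ha ha', h.comm_fixed (hv a a' ha ha'), ← mul_assoc] at h1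
    exact mul_eq_right.1 h1
  exact commutatorElement_eq_one_iff_commute.1
    (hodd _ ((commutator_le_self B) (hv a a' ha ha')) hv2)

theorem Setup.star_comm (h : Setup A B b) (hodd : ∀ x ∈ B, x * x = 1 → x = 1) {A₁ : Subgroup G}
    (h₁ : A₁ ≤ A) : IsMulCommutative (star A A₁ b) := by
  have hs : star A A₁ b = closure (((A₁ ⊓ A.map (MulAut.conj b).toMonoidHom : Subgroup G) : Set G) ∪
      (fun a => ⁅b, a⁆) '' (A₁ : Set G)) := by
    rw [star, Subgroup.closure_union, Subgroup.closure_eq]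
  rw [hs]
  refine isMulCommutative_closure ?_
  rintro x (hx | ⟨a, ha, rfl⟩) y (hy | ⟨a', ha', rfl⟩)
  · exact h.commute (h₁ hx.1) (h₁ hy.1)
  · exact h.inf_commute_c ⟨h₁ hx.1, hx.2⟩ (h₁ ha')
  · exact (h.inf_commute_c ⟨h₁ hy.1, hy.2⟩ (h₁ ha)).symm
  · exact h.c_commute hodd (h₁ ha) (h₁ ha')

theorem Setup.star_le_sup (_h : Setup A B b) {A₁ : Subgroup G} :
    star A A₁ b ≤ A₁ ⊔ A₁.map (MulAut.conj b).toMonoidHom := by
  refine sup_le (inf_le_left.trans le_sup_left) ((closure_le _).2 ?_)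
  rintro _ ⟨a, ha, rfl⟩
  show ⁅b, a⁆ ∈ _
  rw [comm_eq]
  exact mul_mem (mem_sup_right (mem_map_of_mem _ ha)) (mem_sup_left (inv_mem ha))

theorem Setup.star_le_normalizer (h : Setup A B b) {A₁ : Subgroup G} (h₁ : A₁ ≤ A) :
    star A A₁ b ≤ normalizer (A : Set G) :=
  h.star_le_sup.trans (sup_le (h₁.trans le_normalizer) ((map_mono h₁).trans h.left))

theorem star_mono {A₁ A₂ : Subgroup G} (h : A₁ ≤ A₂) : star A A₁ b ≤ star A A₂ b :=
  sup_le_sup (inf_le_inf_right _ h) (closure_mono (Set.image_mono h))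

theorem Setup.inf_B_le (h : Setup A B b) : A ⊓ B ≤ A.map (MulAut.conj b).toMonoidHom := by
  rintro x ⟨hxA, hxB⟩
  refine ⟨b⁻¹ * x * b, ?_, by simp [MulAut.conj_apply, mul_assoc]⟩
  rw [show b⁻¹ * x * b = x * ⁅x⁻¹, b⁻¹⁆ by simp [commutatorElement_def, mul_assoc]]
  exact mul_mem hxA (h.comm_le (commutator_mem_commutator (inv_mem hxB) (inv_mem h.mem)))

theorem Setup.inf_star_le (h : Setup A B b) :
    A ⊓ star A A b ≤ A.map (MulAut.conj b).toMonoidHom := by
  rintro x ⟨hxA, hx⟩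
  have hC : closure ((fun a => ⁅b, a⁆) '' (A : Set G)) ≤
      normalizer ((A ⊓ A.map (MulAut.conj b).toMonoidHom : Subgroup G) : Set G) := by
    refine (closure_le _).2 ?_
    rintro _ ⟨a, ha, rfl⟩
    exact (Subgroup.centralizer_le_normalizer _) (mem_centralizer_iff.2 fun z hz =>
      (h.inf_commute_c hz ha).eq)
  have hx' : x ∈ ((A ⊓ A.map (MulAut.conj b).toMonoidHom : Subgroup G) : Set G) *
      (closure ((fun a => ⁅b, a⁆) '' (A : Set G)) : Set G) := by
    rw [← coe_mul_of_right_le_normalizer_left _ _ hC]; exact hx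
  obtain ⟨z, hz, y, hy, rfl⟩ := hx'
  rw [SetLike.mem_coe, Subgroup.mem_inf] at hz
  have hyB : y ∈ B := (closure_le B).2 (by rintro _ ⟨a, ha, rfl⟩; exact h.c_mem ha) hy
  have hyA : y ∈ A := by simpa using mul_mem (inv_mem hz.1) hxA
  exact mul_mem hz.2 (h.inf_B_le ⟨hyA, hyB⟩)

theorem Setup.card_star [Finite G] (h : Setup A B b) {A₁ : Subgroup G} (h₁ : A₁ ≤ A)
    (hN : normalizer (A : Set G) ≤ normalizer (A₁ : Set G))
    (hint : A₁ ⊓ A.map (MulAut.conj b).toMonoidHom ≤ A₁.map (MulAut.conj b).toMonoidHom) :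
    Nat.card (star A A₁ b) = Nat.card A₁ := by
  set A₁' := A₁.map (MulAut.conj b).toMonoidHom with hA₁'
  have hsup : A₁ ⊔ star A A₁ b = A₁ ⊔ A₁' := by
    refine le_antisymm (sup_le le_sup_left h.star_le_sup) (sup_le le_sup_left ?_)
    rintro _ ⟨a, ha, rfl⟩
    show MulAut.conj b a ∈ _
    rw [conj_eq]
    exact mul_mem (mem_sup_right (mem_sup_right (subset_closure ⟨a, ha, rfl⟩))) (mem_sup_left ha)
  have hinf : A₁ ⊓ star A A₁ b = A₁ ⊓ A₁' := by
    refine le_antisymm ?_ (le_inf inf_le_left ?_)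
    · refine le_inf inf_le_left ?_
      intro x hx
      exact hint ⟨hx.1, h.inf_star_le ⟨h₁ hx.1, star_mono h₁ hx.2⟩⟩
    · exact (inf_le_inf_left _ (map_mono h₁)).trans le_sup_left
  have h1 := card_inf_mul_relIndex A₁ (star A A₁ b)
  have h2 := card_inf_mul_relIndex A₁ A₁'
  rw [← relIndex_sup_of_le_normalizer ((h.star_le_normalizer h₁).trans hN), hsup, hinf] at h1
  rw [← relIndex_sup_of_le_normalizer ((map_mono h₁).trans (h.left.trans hN))] at h2
  rw [← h1, h2, hA₁', card_map_of_injective (MulAut.conj b).injective]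

theorem Setup.star_pow_eq_one (h : Setup A B b) (hodd : ∀ x ∈ B, x * x = 1 → x = 1)
    {A₁ : Subgroup G} (h₁ : A₁ ≤ A) {n : ℕ} (hn : Odd n) (hpow : ∀ a ∈ A₁, a ^ n = 1)
    (hpowA : ∀ a ∈ A₁, ∀ a' ∈ A₁, ⁅a', MulAut.conj b a⁆ ^ n = 1) :
    ∀ x ∈ star A A₁ b, x ^ n = 1 := by
  have hcomm := h.star_comm hodd h₁
  let T : Subgroup G :=
    { carrier := {x | x ∈ star A A₁ b ∧ x ^ n = 1}
      one_mem' := ⟨one_mem _, one_pow n⟩
      mul_mem' := fun {x y} hx hy => ⟨mul_mem hx.1 hy.1, by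
        rw [(show Commute x y from mul_comm_of_isMulCommutative hcomm hx.1 hy.1).mul_pow, hx.2, hy.2,
          one_mul]⟩
      inv_mem' := fun {x} hx => ⟨inv_mem hx.1, by rw [inv_pow, hx.2, inv_one]⟩ }
  suffices star A A₁ b ≤ T from fun x hx => (this hx).2
  refine sup_le ?_ ((closure_le _).2 ?_)
  · intro z hz
    exact ⟨mem_sup_left hz, hpow z (Subgroup.mem_inf.1 hz).1⟩
  · rintro _ ⟨a, ha, rfl⟩
    refine ⟨mem_sup_right (subset_closure ⟨a, ha, rfl⟩), ?_⟩
    show ⁅b, a⁆ ^ n = 1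
    -- compute in the group generated by the two factors
    let H := closure ({MulAut.conj b a, a⁻¹} : Set G)
    let x : H := ⟨MulAut.conj b a, subset_closure (Or.inl rfl)⟩
    let y : H := ⟨a⁻¹, subset_closure (Or.inr rfl)⟩
    have hz := h.comm_mem (inv_mem (h₁ ha)) (h.conj_mem (h₁ ha))
    have hcen : ⁅y, x⁆ ∈ Subgroup.center H := by
      rw [mem_center_iff]
      rintro ⟨g, hg⟩
      apply Subtype.ext
      show g * ⁅a⁻¹, MulAut.conj b a⁆ = ⁅a⁻¹, MulAut.conj b a⁆ * g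
      have hle : H ≤ centralizer {⁅a⁻¹, MulAut.conj b a⁆} := by
        refine (closure_le _).2 ?_
        rintro w (rfl | rfl) <;> rw [SetLike.mem_coe, mem_centralizer_singleton_iff]
        · exact (h.commute' (h.conj_mem (h₁ ha)) hz.2).eq
        · exact (h.commute (inv_mem (h₁ ha)) hz.1).eq
      exact mem_centralizer_singleton_iff.1 (hle hg)
    have hc : n ∣ n.choose 2 := by
      obtain ⟨m, rfl⟩ := hn
      exact ⟨m, by rw [Nat.choose_two_right, Nat.add_sub_cancel, mul_comm 2 m, ← mul_assoc,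
        Nat.mul_div_cancel _ (by norm_num)]⟩
    obtain ⟨k, hk⟩ := hc
    have := congrArg Subtype.val (mul_pow_of_central hcen n)
    simp only [Subgroup.coe_pow, Subgroup.coe_mul] at this
    rw [comm_eq]
    refine this.trans ?_
    have e1 : MulAut.conj b a ^ n = 1 := by rw [← map_pow, hpow a ha, map_one]
    have e2 : (a⁻¹ : G) ^ n = 1 := by rw [inv_pow, hpow a ha, inv_one]
    have e3 : ((⁅y, x⁆ : H) : G) ^ n = 1 := hpowA a ha a⁻¹ (inv_mem ha)
    rw [e1, e2, one_mul, one_mul, hk, pow_mul, e3, one_pow]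

end Facts

variable [Finite G] {p : ℕ} [hp : Fact p.Prime]

theorem odd_of_isPGroup {B : Subgroup G} (hB : IsPGroup p B) (h2 : p ≠ 2) :
    ∀ x ∈ B, x * x = 1 → x = 1 := by
  intro x hx hxx
  obtain ⟨k, hk⟩ := hB.exists_card_eq
  have h1 : orderOf x ∣ p ^ k := hk ▸ Subgroup.orderOf_dvd_natCard B hx
  have h2' : orderOf x ∣ 2 := orderOf_dvd_of_pow_eq_one (by rw [pow_two, hxx])
  have hcop : Nat.Coprime (p ^ k) 2 :=
    ((Nat.coprime_primes hp.out Nat.prime_two).2 h2).pow_left k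
  exact orderOf_eq_one_iff.1 (Nat.eq_one_of_dvd_coprimes hcop h1 h2')

/-- If `B` does not normalize `A`, some element of `B` normalizes `N(A)` within `AB` but not `A`. -/
theorem exists_mem_normalizer_of_not_le {A B : Subgroup G} (hP : IsPGroup p ↥(A ⊔ B))
    (hAB : A ≤ normalizer (B : Set G)) (hnot : ¬ B ≤ normalizer (A : Set G)) :
    ∃ b ∈ B, b ∉ normalizer (A : Set G) ∧
      ∀ n, n ∈ A ⊔ B → n ∈ normalizer (A : Set G) → b * n * b⁻¹ ∈ normalizer (A : Set G) := by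
  haveI := hP.isNilpotent
  let N₀ : Subgroup ↥(A ⊔ B) := (normalizer (A : Set G)).subgroupOf (A ⊔ B)
  have hne : N₀ < ⊤ := lt_top_iff_ne_top.2 fun h => hnot fun b hb =>
    mem_subgroupOf.1 (h ▸ mem_top (⟨b, mem_sup_right hb⟩ : ↥(A ⊔ B)))
  obtain ⟨⟨k, hk⟩, hkN, hkN₀⟩ :=
    SetLike.exists_of_lt (Group.normalizerCondition_of_isNilpotent (G := ↥(A ⊔ B)) N₀ hne)
  have hk' : k ∈ (A : Set G) * (B : Set G) := by
    rw [← coe_mul_of_left_le_normalizer_right _ _ hAB]; exact hk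
  obtain ⟨a, ha, b, hb, rfl⟩ := hk'
  have haN : (⟨a, mem_sup_left ha⟩ : ↥(A ⊔ B)) ∈ normalizer (N₀ : Set ↥(A ⊔ B)) :=
    le_normalizer (mem_subgroupOf.2 (le_normalizer ha))
  have hbk : (⟨b, mem_sup_right hb⟩ : ↥(A ⊔ B)) ∈ normalizer (N₀ : Set ↥(A ⊔ B)) := by
    have := mul_mem (inv_mem haN) hkN
    convert this using 1
    ext; simp
  refine ⟨b, hb, fun hbA => hkN₀ (mem_subgroupOf.2 (mul_mem (le_normalizer ha) hbA)), ?_⟩
  intro n hn hnN
  exact (mem_normalizer_iff.1 hbk ⟨n, hn⟩).1 hnN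

/-- **Glauberman's replacement theorem.** -/
theorem exists_replacement (h2 : p ≠ 2) {A B : Subgroup G} (hP : IsPGroup p ↥(A ⊔ B))
    (hA : IsMulCommutative A) (hB : ⁅⁅B, B⁆, B⁆ = ⊥) (hBA : ⁅B, B⁆ ≤ A)
    (hAB : A ≤ normalizer (B : Set G)) (hnot : ¬ B ≤ normalizer (A : Set G)) :
    ∃ As : Subgroup G, IsMulCommutative As ∧ Nat.card As = Nat.card A ∧ A ⊓ B < As ⊓ B ∧
      As ≤ normalizer (A : Set G) ∧ (∀ D : Subgroup G, A ≤ D → B ≤ normalizer (D : Set G) → As ≤ D) ∧ As ≤ A ⊔ B ∧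
      (∀ n, Odd n → (∀ a ∈ A, a ^ n = 1) → ∀ x ∈ As, x ^ n = 1) ∧
      Nat.card (omegaOne p A) ≤ Nat.card (omegaOne p As) := by
  obtain ⟨b, hb, hbN, hconj⟩ := exists_mem_normalizer_of_not_le hP hAB hnot
  set A' := A.map (MulAut.conj b).toMonoidHom with hA'
  have hleft : A' ≤ normalizer (A : Set G) := by
    rintro _ ⟨a, ha, rfl⟩
    exact hconj a (mem_sup_left ha) (le_normalizer ha)
  have hright : A ≤ normalizer (A' : Set G) := by
    have hbinv : ∀ n, n ∈ A ⊔ B → n ∈ normalizer (A : Set G) →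
        b⁻¹ * n * b ∈ normalizer (A : Set G) := by
      -- conjugation by `b` permutes the finite set of such elements
      intro n hn hnN
      let N₀ : Subgroup G := normalizer (A : Set G) ⊓ (A ⊔ B)
      have hsub : N₀.map (MulAut.conj b).toMonoidHom ≤ N₀ := by
        rintro _ ⟨m, hm, rfl⟩
        rw [SetLike.mem_coe, Subgroup.mem_inf] at hm
        exact Subgroup.mem_inf.2
          ⟨hconj m hm.2 hm.1, mul_mem (mul_mem (mem_sup_right hb) hm.2) (inv_mem (mem_sup_right hb))⟩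
      have heq : N₀.map (MulAut.conj b).toMonoidHom = N₀ := eq_of_le_of_card_ge hsub
        (le_of_eq (card_map_of_injective (MulAut.conj b).injective).symm)
      obtain ⟨m, hm, hmn⟩ : n ∈ N₀.map (MulAut.conj b).toMonoidHom := heq.symm ▸ ⟨hnN, hn⟩
      rw [← hmn]
      simpa [MulAut.conj_apply, mul_assoc] using hm.1
    intro a ha
    rw [mem_normalizer_iff]
    intro x
    have hbn := hbinv a (mem_sup_left ha) (le_normalizer ha)
    rw [mem_normalizer_iff] at hbn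
    rw [hA', mem_map_equiv, mem_map_equiv]
    simp only [MulAut.conj_symm_apply]
    rw [hbn (b⁻¹ * x * b)]
    simp [mul_assoc]
  have hS : Setup A B b := ⟨hA, hAB, hb, hBA, hB, hleft, hright⟩
  have hodd := odd_of_isPGroup (hP.to_le (le_sup_right : B ≤ A ⊔ B)) h2
  have hsupB : A' ≤ A ⊔ B := by
    rintro _ ⟨a, ha, rfl⟩
    exact mul_mem (mul_mem (mem_sup_right hb) (mem_sup_left ha)) (inv_mem (mem_sup_right hb))
  refine ⟨star A A b, hS.star_comm hodd le_rfl, hS.card_star le_rfl le_rfl inf_le_right, ?_,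
    hS.star_le_normalizer le_rfl, ?_, hS.star_le_sup.trans (sup_le le_sup_left hsupB), ?_, ?_⟩
  · refine lt_of_le_of_ne (le_inf ?_ inf_le_right) fun heq => hbN ?_
    · exact (le_inf inf_le_left hS.inf_B_le).trans le_sup_left
    · have hle : A' ≤ A := by
        rintro _ ⟨a, ha, rfl⟩
        show MulAut.conj b a ∈ A
        rw [conj_eq]
        refine mul_mem ?_ ha
        have : ⁅b, a⁆ ∈ A ⊓ B := heq ▸ ⟨mem_sup_right (subset_closure ⟨a, ha, rfl⟩), hS.c_mem ha⟩
        exact this.1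
      have heq' : A' = A := eq_of_le_of_card_ge hle
        (le_of_eq (card_map_of_injective (MulAut.conj b).injective).symm)
      rw [mem_normalizer_iff]
      intro x
      constructor
      · intro hx; exact heq'.le (mem_map_of_mem (MulAut.conj b).toMonoidHom hx)
      · intro hx
        obtain ⟨a, ha, hax⟩ := heq'.ge hx
        have : a = x := (MulAut.conj b).injective hax
        exact this ▸ ha
  · intro D hAD hBD
    refine hS.star_le_sup.trans (sup_le hAD ?_)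
    rintro _ ⟨a, ha, rfl⟩
    exact (mem_normalizer_iff.1 (hBD hb) a).1 (hAD ha)
  · intro n hn hpow
    exact hS.star_pow_eq_one hodd le_rfl hn hpow fun a ha a' ha' =>
      hpow _ (hS.comm_mem ha' (hS.conj_mem ha)).1
  · have h1 : omegaOne p A ≤ A := omegaOne_le A
    have hpow1 : ∀ a ∈ omegaOne p A, a ^ p = 1 := fun a ha => ((mem_omegaOne_iff_of_comm hA).1 ha).2
    have hN : normalizer (A : Set G) ≤ normalizer (omegaOne p A : Set G) := by
      intro g hg
      rw [mem_normalizer_iff]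
      intro x
      rw [mem_omegaOne_iff_of_comm hA, mem_omegaOne_iff_of_comm hA, conj_pow,
        mem_normalizer_iff.1 hg x, conj_eq_one_iff]
    have hint : omegaOne p A ⊓ A' ≤ (omegaOne p A).map (MulAut.conj b).toMonoidHom := by
      rintro _ ⟨hx, a, ha, rfl⟩
      refine ⟨a, (mem_omegaOne_iff_of_comm hA).2 ⟨ha, (MulAut.conj b).injective ?_⟩, rfl⟩
      rw [map_pow, map_one]
      exact hpow1 _ hx
    have hle : star A (omegaOne p A) b ≤ omegaOne p (star A A b) := by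
      intro x hx
      refine mem_omegaOne_of_pow_eq_one (star_mono h1 hx) ?_
      refine hS.star_pow_eq_one hodd h1 (hp.out.odd_of_ne_two h2) hpow1 (fun a ha a' ha' => ?_) x hx
      -- a commutator of two elements of order `p`, central for both
      have hz := hS.comm_mem (h1 ha') (hS.conj_mem (h1 ha))
      have hc : Commute a' ⁅a', MulAut.conj b a⁆ := hS.commute (h1 ha') hz.1
      have key : ∀ k : ℕ, MulAut.conj b a * a' ^ k * (MulAut.conj b a)⁻¹ =
          (⁅a', MulAut.conj b a⁆⁻¹ * a') ^ k := fun k => by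
        rw [← conj_pow]
        congr 1
        simp [commutatorElement_def, mul_assoc]
      have hk := key p
      rw [hc.symm.inv_left.mul_pow, hpow1 a' ha', mul_one, mul_inv_cancel, mul_one, inv_pow] at hk
      exact inv_eq_one.1 hk.symm
    calc Nat.card (omegaOne p A) = Nat.card (star A (omegaOne p A) b) :=
          (hS.card_star h1 hN hint).symm
      _ ≤ _ := Subgroup.card_le_of_le hle

/-- A family of abelian subgroups closed under replacement has a member normalized by `B`. -/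
theorem exists_normalized (h2 : p ≠ 2) {P : Subgroup G} (hP : IsPGroup p P) {B : Subgroup G}
    (hBP : B ≤ P) (hnorm : P ≤ normalizer (B : Set G)) (hB : ⁅⁅B, B⁆, B⁆ = ⊥)
    (𝒜 : Set (Subgroup G)) (hle : ∀ A ∈ 𝒜, A ≤ P) (hab : ∀ A ∈ 𝒜, IsMulCommutative A)
    (hclosed : ∀ A ∈ 𝒜, ∀ As : Subgroup G, IsMulCommutative As → Nat.card As = Nat.card A →
      (∀ D : Subgroup G, A ≤ D → B ≤ normalizer (D : Set G) → As ≤ D) → As ≤ A ⊔ B →
      (∀ n, Odd n → (∀ a ∈ A, a ^ n = 1) → ∀ x ∈ As, x ^ n = 1) → As ∈ 𝒜)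
    (hU : ∃ U ∈ 𝒜, ⁅B, B⁆ ≤ U ∧ ¬ B ≤ U) :
    ∃ A ∈ 𝒜, ⁅B, B⁆ ≤ A ∧ ¬ B ≤ A ∧ B ≤ normalizer (A : Set G) := by
  obtain ⟨U, hU, hU1, hU2⟩ := hU
  obtain ⟨A, ⟨hA, hA1, hA2⟩, hmax⟩ := (Set.toFinite {A | A ∈ 𝒜 ∧ ⁅B, B⁆ ≤ A ∧ ¬ B ≤ A}).exists_maximalFor
    (fun A : Subgroup G => Nat.card ↥(A ⊓ B)) _ ⟨U, hU, hU1, hU2⟩
  refine ⟨A, hA, hA1, hA2, ?_⟩
  by_contra hnot
  obtain ⟨As, hcomm, hcard, hlt, hAsN, hcl, hsup, hpow, -⟩ :=
    exists_replacement h2 (hP.to_le (sup_le (hle A hA) hBP)) (hab A hA) hB hA1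
      ((hle A hA).trans hnorm) hnot
  have hBAs : ¬ B ≤ As := fun h => hnot (h.trans hAsN)
  have hle' : ⁅B, B⁆ ≤ As :=
    (le_inf hA1 (commutator_le_self B)).trans (hlt.le.trans inf_le_left)
  have hcards : Nat.card ↥(A ⊓ B) < Nat.card ↥(As ⊓ B) := by
    refine lt_of_le_of_ne (Subgroup.card_le_of_le hlt.le) fun h => hlt.ne ?_
    exact eq_of_le_of_card_ge hlt.le h.ge
  exact absurd (hmax ⟨hclosed A hA As hcomm hcard hcl hsup hpow, hle', hBAs⟩ hcards.le) (not_le.2 hcards)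

end Cfsg.Agent.Replacement
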