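import Cfsg.Agent.Lib.Replacement.Basic
import Cfsg.Agent.Lib.PGroup.Thompson

/-!
# The families of abelian and elementary abelian subgroups of largest order

Their intersections, their conjugates and the replacement property inside a `p`-subgroup.
-/

set_option autoImplicit false

namespace Cfsg.Agent.Replacement

open scoped commutatorElement
open Subgroup Cfsg.Agent.PGroup

universe u

variable {G : Type u} [Group G]

theorem sInf_isMaxAb [Finite G] (D : Subgroup G) :
    sInf {A : Subgroup G | IsMaxAb D A} = centerThompsonAOf D := by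
  refine le_antisymm (fun x hx => ?_) (le_sInf fun A hA => ?_)
  · rw [mem_sInf] at hx
    obtain ⟨A, hA⟩ := exists_isMaxAb D
    have hc : thompsonSubgroupAOf D ≤ centralizer {x} := by
      rw [thompsonSubgroupAOf_eq]
      exact sSup_le fun B hB a ha => mem_centralizer_singleton_iff.2
        (mul_comm_of_isMulCommutative hB.2.1 ha (hx B hB))
    exact Subgroup.mem_inf.2 ⟨le_thompsonSubgroupAOf hA (hx A hA),
      mem_centralizer_iff.2 fun a ha => mem_centralizer_singleton_iff.1 (hc ha)⟩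
  · refine le_trans ?_ (inf_centralizer_eq_of_isMaxAb hA).le
    exact le_inf (inf_le_left.trans (thompsonSubgroupAOf_le D))
      (inf_le_right.trans (centralizer_le (le_thompsonSubgroupAOf hA)))

theorem omegaOne_centralizer_le_sInf [Finite G] (p : ℕ) (D : Subgroup G) :
    omegaOne p (D ⊓ centralizer (thompsonSubgroupOf p D : Set G)) ≤
      sInf {A : Subgroup G | IsMaxEA p D A} := by
  refine le_sInf fun A hA => le_trans (omegaOne_mono ?_) (omegaOne_centralizer_le_of_isMaxEA hA)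
  exact inf_le_inf_left _ (centralizer_le (le_thompsonSubgroupOf hA))

theorem sInf_isMaxEA_le [Finite G] (p : ℕ) (D : Subgroup G) :
    sInf {A : Subgroup G | IsMaxEA p D A} ≤ omegaOne p (centerThompsonOf p D) := by
  intro x hx
  rw [mem_sInf] at hx
  obtain ⟨A, hA⟩ := exists_isMaxEA (p := p) D
  have hc : thompsonSubgroupOf p D ≤ centralizer {x} := by
    rw [thompsonSubgroupOf_eq]
    exact sSup_le fun B hB a ha => mem_centralizer_singleton_iff.2
      (mul_comm_of_elementaryAbelian hB.2.1 ha (hx B hB))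
  exact mem_omegaOne_of_pow_eq_one (Subgroup.mem_inf.2 ⟨le_thompsonSubgroupOf hA (hx A hA),
    mem_centralizer_iff.2 fun a ha => mem_centralizer_singleton_iff.1 (hc ha)⟩)
    (hA.2.1.2 x (hx A hA))

theorem sInf_isMaxEA [Finite G] (p : ℕ) (D : Subgroup G) :
    sInf {A : Subgroup G | IsMaxEA p D A} = omegaOne p (centerThompsonOf p D) :=
  le_antisymm (sInf_isMaxEA_le p D)
    ((omegaOne_mono (inf_le_inf_right _ (thompsonSubgroupOf_le D))).trans
      (omegaOne_centralizer_le_sInf p D))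

variable [Finite G] {p : ℕ} [hp : Fact p.Prime]

/-- The abelian subgroups of largest order of `D` have the replacement property. -/
theorem exists_normalized_maxAb (h2 : p ≠ 2) {P D B : Subgroup G} (hP : IsPGroup p P)
    (hDP : D ≤ P) (hBP : B ≤ P) (hPD : P ≤ normalizer (D : Set G))
    (hPB : P ≤ normalizer (B : Set G)) (hB : ⁅⁅B, B⁆, B⁆ = ⊥)
    (hU : ∃ U, IsMaxAb D U ∧ ⁅B, B⁆ ≤ U ∧ ¬ B ≤ U) :
    ∃ A, IsMaxAb D A ∧ ⁅B, B⁆ ≤ A ∧ ¬ B ≤ A ∧ B ≤ normalizer (A : Set G) :=
  exists_normalized h2 hP hBP hPB hB {A | IsMaxAb D A} (fun A hA => hA.1.trans hDP)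
    (fun A hA => hA.2.1)
    (fun A hA As hc hcard hD _ _ =>
      ⟨hD D hA.1 (hBP.trans hPD), hc, fun C hC hCc => (hA.2.2 C hC hCc).trans_eq hcard.symm⟩)
    hU

/-- The elementary abelian subgroups of largest order of `D` have the replacement property. -/
theorem exists_normalized_maxEA (h2 : p ≠ 2) {P D B : Subgroup G} (hP : IsPGroup p P)
    (hDP : D ≤ P) (hBP : B ≤ P) (hPD : P ≤ normalizer (D : Set G))
    (hPB : P ≤ normalizer (B : Set G)) (hB : ⁅⁅B, B⁆, B⁆ = ⊥)
    (hU : ∃ U, IsMaxEA p D U ∧ ⁅B, B⁆ ≤ U ∧ ¬ B ≤ U) :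
    ∃ A, IsMaxEA p D A ∧ ⁅B, B⁆ ≤ A ∧ ¬ B ≤ A ∧ B ≤ normalizer (A : Set G) :=
  exists_normalized h2 hP hBP hPB hB {A | IsMaxEA p D A} (fun A hA => hA.1.trans hDP)
    (fun A hA => hA.2.1.1)
    (fun A hA As hc hcard hD _ hpow =>
      ⟨hD D hA.1 (hBP.trans hPD), ⟨hc, hpow p (hp.out.odd_of_ne_two h2) hA.2.1.2⟩,
        fun C hC hCc => (hA.2.2 C hC hCc).trans_eq hcard.symm⟩)
    hU

end Cfsg.Agent.Replacement
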