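import Cfsg.Agent.Lib.Replacement.Basic

/-!
# The replacement `(A ∩ bAb⁻¹)[b, A]` without a bound on the class of `B`

`GSetup` is `Setup` without the hypothesis `⁅⁅B, B⁆, B⁆ = 1`: the commutators `⁅⁅b, a⁆, ⁅b, a'⁆⁆` are
fixed by `b` anyway, as `⁅b, a⁆` centralizes `⁅B, B⁆ ≤ A ∩ bAb⁻¹`.
-/

set_option autoImplicit false

namespace Cfsg.Agent.Replacement.General

open scoped commutatorElement Pointwise
open Subgroup Cfsg.Agent.PGroup Cfsg.Agent.Replacement

universe u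

variable {G : Type u} [Group G]

/-- The hypotheses on an element `b ∈ B` used to build a replacement of the abelian subgroup `A`. -/
structure GSetup (A B : Subgroup G) (b : G) : Prop where
  comm : IsMulCommutative A
  norm : A ≤ normalizer (B : Set G)
  mem : b ∈ B
  comm_le : ⁅B, B⁆ ≤ A
  left : A.map (MulAut.conj b).toMonoidHom ≤ normalizer (A : Set G)
  right : A ≤ normalizer ((A.map (MulAut.conj b).toMonoidHom : Subgroup G) : Set G)

section Facts

variable {A B : Subgroup G} {b : G}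

theorem GSetup.commute (h : GSetup A B b) {x y : G} (hx : x ∈ A) (hy : y ∈ A) : Commute x y :=
  mul_comm_of_isMulCommutative h.comm hx hy

theorem GSetup.conj_mem (h : GSetup A B b) {a : G} (ha : a ∈ A) :
    MulAut.conj b a ∈ A.map (MulAut.conj b).toMonoidHom :=
  mem_map_of_mem _ ha

theorem GSetup.commute' (h : GSetup A B b) {x y : G}
    (hx : x ∈ A.map (MulAut.conj b).toMonoidHom) (hy : y ∈ A.map (MulAut.conj b).toMonoidHom) :
    Commute x y := by
  obtain ⟨x, hx, rfl⟩ := hx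
  obtain ⟨y, hy, rfl⟩ := hy
  exact (h.commute hx hy).map _

theorem GSetup.comm_mem (h : GSetup A B b) {x y : G} (hx : x ∈ A)
    (hy : y ∈ A.map (MulAut.conj b).toMonoidHom) :
    ⁅x, y⁆ ∈ A ⊓ A.map (MulAut.conj b).toMonoidHom := by
  rw [Subgroup.mem_inf]
  constructor
  · have h1 := (mem_normalizer_iff.1 (h.left hy) x⁻¹).1 (inv_mem hx)
    have : ⁅x, y⁆ = x * (y * x⁻¹ * y⁻¹) := by simp [commutatorElement_def, mul_assoc]
    rw [this]; exact mul_mem hx h1
  · have h1 := (mem_normalizer_iff.1 (h.right hx) y).1 hy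
    have : ⁅x, y⁆ = x * y * x⁻¹ * y⁻¹ := commutatorElement_def x y
    rw [this]; exact mul_mem h1 (inv_mem hy)

theorem GSetup.comm_mem' (h : GSetup A B b) {x y : G} (hx : x ∈ A)
    (hy : y ∈ A.map (MulAut.conj b).toMonoidHom) :
    ⁅y, x⁆ ∈ A ⊓ A.map (MulAut.conj b).toMonoidHom := by
  rw [← commutatorElement_inv]; exact inv_mem (h.comm_mem hx hy)

theorem GSetup.c_mem (h : GSetup A B b) {a : G} (ha : a ∈ A) : ⁅b, a⁆ ∈ B := by
  have h1 := (mem_normalizer_iff.1 (h.norm ha) b⁻¹).1 (inv_mem h.mem)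
  rw [show ⁅b, a⁆ = b * (a * b⁻¹ * a⁻¹) by simp [commutatorElement_def, mul_assoc]]
  exact mul_mem h.mem h1

theorem GSetup.comm_mem_inf (h : GSetup A B b) {d : G} (hd : d ∈ ⁅B, B⁆) :
    d ∈ A ⊓ A.map (MulAut.conj b).toMonoidHom := by
  refine ⟨h.comm_le hd, b⁻¹ * d * b, h.comm_le ?_, by simp [MulAut.conj_apply, mul_assoc]⟩
  have hbB : B.map (MulAut.conj b⁻¹).toMonoidHom ≤ B := by
    rintro _ ⟨x, hx, rfl⟩
    exact mul_mem (mul_mem (inv_mem h.mem) hx) (inv_mem (inv_mem h.mem))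
  have h1 := mem_map_of_mem (MulAut.conj b⁻¹).toMonoidHom hd
  rw [map_commutator] at h1
  simpa [MulAut.conj_apply] using commutator_mono hbB hbB h1

theorem GSetup.inf_commute_c (h : GSetup A B b) {z a : G}
    (hz : z ∈ A ⊓ A.map (MulAut.conj b).toMonoidHom) (ha : a ∈ A) : Commute z ⁅b, a⁆ := by
  rw [comm_eq]
  exact (h.commute' hz.2 (h.conj_mem ha)).mul_right (h.commute hz.1 (inv_mem ha))

/-- A commutator of two elements `⁅b, a⁆` is fixed by `b`. -/
theorem GSetup.v_fixed (h : GSetup A B b) {a a' : G} (ha : a ∈ A) (ha' : a' ∈ A) :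
    MulAut.conj b ⁅⁅b, a⁆, ⁅b, a'⁆⁆ = ⁅⁅b, a⁆, ⁅b, a'⁆⁆ := by
  have hd := h.comm_mem_inf (commutator_mem_commutator h.mem (h.c_mem ha))
  have hd' := h.comm_mem_inf (commutator_mem_commutator h.mem (h.c_mem ha'))
  rw [map_commutatorElement, conj_eq (b := b) ⁅b, a⁆, conj_eq (b := b) ⁅b, a'⁆,
    commutatorElement_mul_left_eq_conj_mul, commutatorElement_mul_right_eq_mul_conj,
    commutatorElement_mul_right_eq_mul_conj,
    commutatorElement_eq_one_iff_commute.2 (h.inf_commute_c hd' ha).symm,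
    commutatorElement_eq_one_iff_commute.2 (h.commute hd.1 hd'.1),
    commutatorElement_eq_one_iff_commute.2 (h.inf_commute_c hd ha')]
  simp only [one_mul, mul_one, mul_inv_cancel]
  have hv := h.comm_mem_inf (commutator_mem_commutator (h.c_mem ha) (h.c_mem ha'))
  rw [(h.commute hd'.1 hv.1).eq, mul_inv_cancel_right, (h.commute hd.1 hv.1).eq, mul_inv_cancel_right]

/-- The key computation: the elements `⁅b, a⁆` commute with each other. -/
theorem GSetup.c_commute (h : GSetup A B b) (hodd : ∀ x ∈ ⁅B, B⁆, x * x = 1 → x = 1) {a a' : G}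
    (ha : a ∈ A) (ha' : a' ∈ A) : Commute ⁅b, a⁆ ⁅b, a'⁆ := by
  have f1 : ∀ a a', a ∈ A → a' ∈ A → ⁅⁅b, a⁆, a'⁆ = ⁅MulAut.conj b a, a'⁆ := by
    intro a a' ha ha'
    rw [comm_eq (b := b) a, commutatorElement_mul_left_eq_conj_mul,
      commutatorElement_eq_one_iff_commute.2 (h.commute (inv_mem ha) ha'), mul_one, mul_inv_cancel,
      one_mul]
  have hu : ∀ a a', a ∈ A → a' ∈ A →
      ⁅MulAut.conj b a, a'⁆ ∈ A ⊓ A.map (MulAut.conj b).toMonoidHom :=
    fun a a' ha ha' => h.comm_mem' ha' (h.conj_mem ha)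
  have hv : ∀ a a', a ∈ A → a' ∈ A → ⁅⁅b, a⁆, ⁅b, a'⁆⁆ ∈ ⁅B, B⁆ := fun a a' ha ha' =>
    commutator_mem_commutator (h.c_mem ha) (h.c_mem ha')
  have f2 : ∀ a a', a ∈ A → a' ∈ A → MulAut.conj b ⁅MulAut.conj b a, a'⁆ =
      ⁅⁅b, a⁆, ⁅b, a'⁆⁆ * ⁅MulAut.conj b a, a'⁆ := by
    intro a a' ha ha'
    have hd : ⁅b, ⁅b, a⁆⁆ ∈ ⁅B, B⁆ := commutator_mem_commutator h.mem (h.c_mem ha)
    have hdA := h.comm_mem_inf hd
    have hpp : MulAut.conj b (MulAut.conj b a) = ⁅b, ⁅b, a⁆⁆ * ⁅b, a⁆ * MulAut.conj b a := by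
      conv_lhs => rw [conj_eq (b := b) a, map_mul, conj_eq (b := b) ⁅b, a⁆]
    rw [map_commutatorElement, hpp, commutatorElement_mul_left_eq_conj_mul,
      commutatorElement_eq_one_iff_commute.2 (h.commute' (h.conj_mem ha) (h.conj_mem ha')),
      mul_one, mul_inv_cancel, one_mul, commutatorElement_mul_left_eq_conj_mul,
      commutatorElement_eq_one_iff_commute.2 (h.commute' hdA.2 (h.conj_mem ha')), mul_one]
    conv_lhs => rw [conj_eq (b := b) a', commutatorElement_mul_right_eq_mul_conj, f1 a a' ha ha',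
      mul_assoc _ ⁅b, a'⁆, ← (h.inf_commute_c (hu a a' ha ha') ha').eq]
    simp only [mul_assoc, mul_inv_cancel_left]
    rw [← mul_assoc ⁅⁅b, a⁆, ⁅b, a'⁆⁆, ← mul_assoc ⁅b, ⁅b, a⁆⁆,
      (h.commute hdA.1 (mul_mem (h.comm_le (hv a a' ha ha')) (hu a a' ha ha').1)).eq,
      mul_inv_cancel_right]
  have f3 : ∀ a a', a ∈ A → a' ∈ A → ⁅MulAut.conj b a', a⁆ =
      ⁅⁅b, a⁆, ⁅b, a'⁆⁆ * ⁅MulAut.conj b a, a'⁆ := by
    intro a a' ha ha'
    have h0 : ⁅MulAut.conj b a, MulAut.conj b a'⁆ = 1 :=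
      commutatorElement_eq_one_iff_commute.2 (h.commute' (h.conj_mem ha) (h.conj_mem ha'))
    rw [conj_eq (b := b) a, conj_eq (b := b) a', commutatorElement_mul_left_eq_conj_mul,
      commutatorElement_mul_right_eq_mul_conj, commutatorElement_eq_one_iff_commute.2 (h.commute ha ha'),
      mul_one, mul_inv_cancel_right, commutatorElement_mul_right_eq_mul_conj] at h0
    rw [← commutatorElement_inv ⁅b, a'⁆ a, f1 a' a ha' ha, f1 a a' ha ha',
      ← (h.inf_commute_c (inv_mem (hu a' a ha' ha)) ha).eq, mul_inv_cancel_right,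
      mul_assoc _ ⁅b, a'⁆, ← (h.inf_commute_c (hu a a' ha ha') ha').eq] at h0
    simp only [mul_assoc, mul_inv_cancel, mul_one] at h0
    exact inv_mul_eq_one.1 h0
  have hv2 : ⁅⁅b, a⁆, ⁅b, a'⁆⁆ * ⁅⁅b, a⁆, ⁅b, a'⁆⁆ = 1 := by
    set v := ⁅⁅b, a⁆, ⁅b, a'⁆⁆ with hvdef
    have h1 := f2 a' a ha' ha
    rw [← commutatorElement_inv ⁅b, a⁆ ⁅b, a'⁆, ← hvdef, f3 a a' ha ha', inv_mul_cancel_left, map_mul,
      f2 a a' ha ha', h.v_fixed ha ha', ← mul_assoc] at h1
    exact mul_eq_right.1 h1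
  exact commutatorElement_eq_one_iff_commute.1
    (hodd _ (hv a a' ha ha') hv2)

theorem GSetup.star_comm (h : GSetup A B b) (hodd : ∀ x ∈ ⁅B, B⁆, x * x = 1 → x = 1) {A₁ : Subgroup G}
    (h₁ : A₁ ≤ A) : IsMulCommutative (star A A₁ b) := by
  have hs : star A A₁ b = closure (((A₁ ⊓ A.map (MulAut.conj b).toMonoidHom : Subgroup G) : Set G) ∪
      (fun a => ⁅b, a⁆) '' (A₁ : Set G)) := by
    rw [star, Subgroup.closure_union, Subgroup.closure_eq]
  rw [hs]
  refine isMulCommutative_closure ?_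
  rintro x (hx | ⟨a, ha, rfl⟩) y (hy | ⟨a', ha', rfl⟩)
  · exact h.commute (h₁ hx.1) (h₁ hy.1)
  · exact h.inf_commute_c ⟨h₁ hx.1, hx.2⟩ (h₁ ha')
  · exact (h.inf_commute_c ⟨h₁ hy.1, hy.2⟩ (h₁ ha)).symm
  · exact h.c_commute hodd (h₁ ha) (h₁ ha')

theorem GSetup.star_le_sup (_h : GSetup A B b) {A₁ : Subgroup G} :
    star A A₁ b ≤ A₁ ⊔ A₁.map (MulAut.conj b).toMonoidHom := by
  refine sup_le (inf_le_left.trans le_sup_left) ((closure_le _).2 ?_)
  rintro _ ⟨a, ha, rfl⟩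
  show ⁅b, a⁆ ∈ _
  rw [comm_eq]
  exact mul_mem (mem_sup_right (mem_map_of_mem _ ha)) (mem_sup_left (inv_mem ha))

theorem GSetup.star_le_normalizer (h : GSetup A B b) {A₁ : Subgroup G} (h₁ : A₁ ≤ A) :
    star A A₁ b ≤ normalizer (A : Set G) :=
  h.star_le_sup.trans (sup_le (h₁.trans le_normalizer) ((map_mono h₁).trans h.left))

theorem GSetup.inf_B_le (h : GSetup A B b) : A ⊓ B ≤ A.map (MulAut.conj b).toMonoidHom := by
  rintro x ⟨hxA, hxB⟩
  refine ⟨b⁻¹ * x * b, ?_, by simp [MulAut.conj_apply, mul_assoc]⟩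
  rw [show b⁻¹ * x * b = x * ⁅x⁻¹, b⁻¹⁆ by simp [commutatorElement_def, mul_assoc]]
  exact mul_mem hxA (h.comm_le (commutator_mem_commutator (inv_mem hxB) (inv_mem h.mem)))

theorem GSetup.inf_star_le (h : GSetup A B b) :
    A ⊓ star A A b ≤ A.map (MulAut.conj b).toMonoidHom := by
  rintro x ⟨hxA, hx⟩
  have hC : closure ((fun a => ⁅b, a⁆) '' (A : Set G)) ≤
      normalizer ((A ⊓ A.map (MulAut.conj b).toMonoidHom : Subgroup G) : Set G) := by
    refine (closure_le _).2 ?_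
    rintro _ ⟨a, ha, rfl⟩
    exact (Subgroup.centralizer_le_normalizer _) (mem_centralizer_iff.2 fun z hz =>
      (h.inf_commute_c hz ha).eq)
  have hx' : x ∈ ((A ⊓ A.map (MulAut.conj b).toMonoidHom : Subgroup G) : Set G) *
      (closure ((fun a => ⁅b, a⁆) '' (A : Set G)) : Set G) := by
    rw [← coe_mul_of_right_le_normalizer_left _ _ hC]; exact hx
  obtain ⟨z, hz, y, hy, rfl⟩ := hx'
  rw [SetLike.mem_coe, Subgroup.mem_inf] at hz
  have hyB : y ∈ B := (closure_le B).2 (by rintro _ ⟨a, ha, rfl⟩; exact h.c_mem ha) hy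
  have hyA : y ∈ A := by simpa using mul_mem (inv_mem hz.1) hxA
  exact mul_mem hz.2 (h.inf_B_le ⟨hyA, hyB⟩)

theorem GSetup.card_star [Finite G] (h : GSetup A B b) {A₁ : Subgroup G} (h₁ : A₁ ≤ A)
    (hN : normalizer (A : Set G) ≤ normalizer (A₁ : Set G))
    (hint : A₁ ⊓ A.map (MulAut.conj b).toMonoidHom ≤ A₁.map (MulAut.conj b).toMonoidHom) :
    Nat.card (star A A₁ b) = Nat.card A₁ := by
  set A₁' := A₁.map (MulAut.conj b).toMonoidHom with hA₁'
  have hsup : A₁ ⊔ star A A₁ b = A₁ ⊔ A₁' := by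
    refine le_antisymm (sup_le le_sup_left h.star_le_sup) (sup_le le_sup_left ?_)
    rintro _ ⟨a, ha, rfl⟩
    show MulAut.conj b a ∈ _
    rw [conj_eq]
    exact mul_mem (mem_sup_right (mem_sup_right (subset_closure ⟨a, ha, rfl⟩))) (mem_sup_left ha)
  have hinf : A₁ ⊓ star A A₁ b = A₁ ⊓ A₁' := by
    refine le_antisymm ?_ (le_inf inf_le_left ?_)
    · refine le_inf inf_le_left ?_
      intro x hx
      exact hint ⟨hx.1, h.inf_star_le ⟨h₁ hx.1, star_mono h₁ hx.2⟩⟩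
    · exact (inf_le_inf_left _ (map_mono h₁)).trans le_sup_left
  have h1 := card_inf_mul_relIndex A₁ (star A A₁ b)
  have h2 := card_inf_mul_relIndex A₁ A₁'
  rw [← relIndex_sup_of_le_normalizer ((h.star_le_normalizer h₁).trans hN), hsup, hinf] at h1
  rw [← relIndex_sup_of_le_normalizer ((map_mono h₁).trans (h.left.trans hN))] at h2
  rw [← h1, h2, hA₁', card_map_of_injective (MulAut.conj b).injective]

theorem GSetup.star_pow_eq_one (h : GSetup A B b) (hodd : ∀ x ∈ ⁅B, B⁆, x * x = 1 → x = 1)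
    {A₁ : Subgroup G} (h₁ : A₁ ≤ A) {n : ℕ} (hn : Odd n) (hpow : ∀ a ∈ A₁, a ^ n = 1)
    (hpowA : ∀ a ∈ A₁, ∀ a' ∈ A₁, ⁅a', MulAut.conj b a⁆ ^ n = 1) :
    ∀ x ∈ star A A₁ b, x ^ n = 1 := by
  have hcomm := h.star_comm hodd h₁
  let T : Subgroup G :=
    { carrier := {x | x ∈ star A A₁ b ∧ x ^ n = 1}
      one_mem' := ⟨one_mem _, one_pow n⟩
      mul_mem' := fun {x y} hx hy => ⟨mul_mem hx.1 hy.1, by
        rw [(show Commute x y from mul_comm_of_isMulCommutative hcomm hx.1 hy.1).mul_pow, hx.2, hy.2,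
          one_mul]⟩
      inv_mem' := fun {x} hx => ⟨inv_mem hx.1, by rw [inv_pow, hx.2, inv_one]⟩ }
  suffices star A A₁ b ≤ T from fun x hx => (this hx).2
  refine sup_le ?_ ((closure_le _).2 ?_)
  · intro z hz
    exact ⟨mem_sup_left hz, hpow z (Subgroup.mem_inf.1 hz).1⟩
  · rintro _ ⟨a, ha, rfl⟩
    refine ⟨mem_sup_right (subset_closure ⟨a, ha, rfl⟩), ?_⟩
    show ⁅b, a⁆ ^ n = 1
    -- compute in the group generated by the two factors
    let H := closure ({MulAut.conj b a, a⁻¹} : Set G)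
    let x : H := ⟨MulAut.conj b a, subset_closure (Or.inl rfl)⟩
    let y : H := ⟨a⁻¹, subset_closure (Or.inr rfl)⟩
    have hz := h.comm_mem (inv_mem (h₁ ha)) (h.conj_mem (h₁ ha))
    have hcen : ⁅y, x⁆ ∈ Subgroup.center H := by
      rw [mem_center_iff]
      rintro ⟨g, hg⟩
      apply Subtype.ext
      show g * ⁅a⁻¹, MulAut.conj b a⁆ = ⁅a⁻¹, MulAut.conj b a⁆ * g
      have hle : H ≤ centralizer {⁅a⁻¹, MulAut.conj b a⁆} := by
        refine (closure_le _).2 ?_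
        rintro w (rfl | rfl) <;> rw [SetLike.mem_coe, mem_centralizer_singleton_iff]
        · exact (h.commute' (h.conj_mem (h₁ ha)) hz.2).eq
        · exact (h.commute (inv_mem (h₁ ha)) hz.1).eq
      exact mem_centralizer_singleton_iff.1 (hle hg)
    have hc : n ∣ n.choose 2 := by
      obtain ⟨m, rfl⟩ := hn
      exact ⟨m, by rw [Nat.choose_two_right, Nat.add_sub_cancel, mul_comm 2 m, ← mul_assoc,
        Nat.mul_div_cancel _ (by norm_num)]⟩
    obtain ⟨k, hk⟩ := hc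
    have := congrArg Subtype.val (mul_pow_of_central hcen n)
    simp only [Subgroup.coe_pow, Subgroup.coe_mul] at this
    rw [comm_eq]
    refine this.trans ?_
    have e1 : MulAut.conj b a ^ n = 1 := by rw [← map_pow, hpow a ha, map_one]
    have e2 : (a⁻¹ : G) ^ n = 1 := by rw [inv_pow, hpow a ha, inv_one]
    have e3 : ((⁅y, x⁆ : H) : G) ^ n = 1 := hpowA a ha a⁻¹ (inv_mem ha)
    rw [e1, e2, one_mul, one_mul, hk, pow_mul, e3, one_pow]


theorem GSetup.conj_mem_star (h : GSetup A B b) {x : G} (hx : x ∈ star A A b) :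
    b * x * b⁻¹ ∈ star A A b := by
  have hle : star A A b ≤ (star A A b).comap (MulAut.conj b).toMonoidHom := by
    refine sup_le ?_ ((closure_le _).2 ?_)
    · intro z hz
      show MulAut.conj b z ∈ star A A b
      rw [conj_eq]
      exact mul_mem (mem_sup_right (subset_closure ⟨z, (Subgroup.mem_inf.1 hz).1, rfl⟩)) (mem_sup_left hz)
    · rintro _ ⟨a, ha, rfl⟩
      show MulAut.conj b ⁅b, a⁆ ∈ star A A b
      rw [conj_eq]
      exact mul_mem (mem_sup_left (h.comm_mem_inf (commutator_mem_commutator h.mem (h.c_mem ha))))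
        (mem_sup_right (subset_closure ⟨a, ha, rfl⟩))
  exact hle hx

theorem GSetup.normalizer_conj_mem_star (h : GSetup A B b) {g : G}
    (hgB : g ∈ normalizer (B : Set G)) (hgA : g ∈ normalizer (A : Set G))
    (hb : b⁻¹ * g * b ∈ normalizer (A : Set G)) {x : G} (hx : x ∈ star A A b) :
    g * x * g⁻¹ ∈ star A A b := by
  set m := b⁻¹ * g * b * g⁻¹ with hm
  have hmA : m ∈ normalizer (A : Set G) := mul_mem hb (inv_mem hgA)
  have hmB : m ∈ B := by
    rw [hm, show b⁻¹ * g * b * g⁻¹ = b⁻¹ * (g * b * g⁻¹) by group]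
    exact mul_mem (inv_mem h.mem) ((mem_normalizer_iff.1 hgB b).1 h.mem)
  have hle : star A A b ≤ (star A A b).comap (MulAut.conj g).toMonoidHom := by
    refine sup_le ?_ ((closure_le _).2 ?_)
    · rintro _ ⟨hz, a, ha, rfl⟩
      refine mem_sup_left ⟨(mem_normalizer_iff.1 hgA _).1 hz, m * (g * a * g⁻¹) * m⁻¹,
        (mem_normalizer_iff.1 hmA _).1 ((mem_normalizer_iff.1 hgA a).1 ha), ?_⟩
      show b * (m * (g * a * g⁻¹) * m⁻¹) * b⁻¹ = g * (b * a * b⁻¹) * g⁻¹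
      rw [hm]; group
    · rintro _ ⟨a, ha, rfl⟩
      have ha' := (mem_normalizer_iff.1 hgA a).1 ha
      have hmz : ⁅m, g * a * g⁻¹⁆ ∈ A ⊓ B := by
        refine Subgroup.mem_inf.2 ⟨?_, ?_⟩
        · rw [commutatorElement_def]
          exact mul_mem ((mem_normalizer_iff.1 hmA _).1 ha') (inv_mem ha')
        · rw [commutatorElement_def, mul_assoc, mul_assoc]
          refine mul_mem hmB ?_
          rw [← mul_assoc]
          exact (mem_normalizer_iff.1 (h.norm ha') m⁻¹).1 (inv_mem hmB)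
      show g * ⁅b, a⁆ * g⁻¹ ∈ star A A b
      have e : g * ⁅b, a⁆ * g⁻¹ = b * ⁅m, g * a * g⁻¹⁆ * b⁻¹ * ⁅b, g * a * g⁻¹⁆ := by
        rw [hm]; simp only [commutatorElement_def]; group
      rw [e]
      exact mul_mem (h.conj_mem_star (mem_sup_left ⟨hmz.1, h.inf_B_le hmz⟩))
        (mem_sup_right (subset_closure ⟨_, ha', rfl⟩))
  exact hle hx

end Facts

end Cfsg.Agent.Replacement.General
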